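import Cfsg.Agent.H623.GLn.Wick
import Cfsg.Agent.H139.Cusp.FieldSum

/-!
# S4536, `GL_n` half: the family `R_k(θ^a)` depends only on the Frobenius orbit of `a` modulo `q^k - 1`

* `lba_minpoly`, `exists_root` : `lba θ a` of an irreducible polynomial as a sum over the conjugates of a root;
* `Rf_congr` : `R_k(θ^a') = R_k(θ^a)` if `a' ≡ a q^j` modulo `q^k - 1`;
* `Rc_frob`, `Rc_canon` : `R_k(q^j c) = R_k(c)`, `R_k(canon c) = R_k(c)`;
* `piA_rv` : `piA (rv q M k c) = Rc θ M k c`.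
-/

set_option autoImplicit false

open Polynomial
open Cfsg.Agent.H614.GLn
open Cfsg.Agent.H139.Cusp (kap_congr_B roots_minpoly pow_eq_self_iff integral_of_finite)

namespace Cfsg.Agent.H623.GLn

universe u w

variable {F : Type u} [Field F] {K : Type w} [Field K] [Algebra F K] {θ : K →*₀ ℂ}

open Classical in
theorem lba_minpoly [Finite F] [Finite K] (a : ℕ) (l : K) :
    lba θ a (minpoly F l) = if l = 0 then 0 else ∑ i ∈ Finset.range (minpoly F l).natDegree, (θ l ^ a) ^ (Nat.card F ^ i) := by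
  rw [lba, roots_minpoly, Multiset.map_map]
  change ∑ i ∈ Finset.range (minpoly F l).natDegree, _ = _
  by_cases hl : l = 0
  · rw [if_pos hl]
    refine Finset.sum_eq_zero fun i _ => ?_
    rw [Function.comp_apply, if_pos]
    rw [hl, zero_pow (pow_ne_zero _ Nat.card_pos.ne')]
  · rw [if_neg hl]
    refine Finset.sum_congr rfl fun i _ => ?_
    rw [Function.comp_apply, if_neg (pow_ne_zero _ hl), map_pow, ← pow_mul, ← pow_mul, mul_comm]

/-- an irreducible polynomial that splits is the minimal polynomial of a root -/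
theorem exists_root [Finite F] [Finite K] {f : F[X]} (hf : f.Monic) (hirr : Irreducible f)
    (hs : (f.map (algebraMap F K)).Splits) : ∃ l : K, f = minpoly F l := by
  have hd : (f.map (algebraMap F K)).degree ≠ 0 := by
    rw [degree_map]
    exact hirr.degree_pos.ne'
  obtain ⟨l, hl⟩ := hs.exists_eval_eq_zero hd
  refine ⟨l, minpoly.eq_of_irreducible_of_monic hirr ?_ hf⟩
  rwa [eval_map_algebraMap] at hl

/-- the sum of a periodic function over a period is invariant under shifts -/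
theorem sum_shift {d : ℕ} (g : ℕ → ℂ) (hg : ∀ i, g (i + d) = g i) (j : ℕ) :
    ∑ i ∈ Finset.range d, g (i + j) = ∑ i ∈ Finset.range d, g i := by
  induction j with
  | zero => rfl
  | succ j ih =>
    rw [← ih]
    have h1 : ∑ i ∈ Finset.range (d + 1), g (i + j) = ∑ i ∈ Finset.range d, g (i + j) + g (d + j) :=
      Finset.sum_range_succ _ d
    have h2 : ∑ i ∈ Finset.range (d + 1), g (i + j) = ∑ i ∈ Finset.range d, g (i + 1 + j) + g (0 + j) :=
      Finset.sum_range_succ' _ d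
    have h3 : g (d + j) = g (0 + j) := by rw [add_comm d j, hg, zero_add]
    rw [h3] at h1
    have h4 := add_right_cancel (h2.symm.trans h1)
    rw [← h4]
    refine Finset.sum_congr rfl fun i _ => ?_
    congr 1
    ring

theorem lba_congr {N M : ℕ} (ctx : Ctx F θ N M) {k : ℕ} (hk : 0 < k) (hkN : k ≤ N) {a a' j : ℕ}
    (h : a' ≡ a * Nat.card F ^ j [MOD (Nat.card F ^ k - 1)]) {f : F[X]} (hf : f.Monic) (hirr : Irreducible f)
    (hd : f.natDegree ∣ k) : lba θ a' f = lba θ a f := by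
  have := ctx.finF
  have := ctx.finK
  obtain ⟨l, rfl⟩ := exists_root (K := K) hf hirr (ctx.spl f hf ((Nat.le_of_dvd hk hd).trans hkN))
  rw [lba_minpoly, lba_minpoly]
  by_cases hl : l = 0
  · rw [if_pos hl, if_pos hl]
  rw [if_neg hl, if_neg hl]
  have hq1 : 1 ≤ Nat.card F ^ k := Nat.one_le_pow _ _ Nat.card_pos
  have h1 : θ l ^ (Nat.card F ^ k - 1) = 1 := by
    have h2 : l ^ (Nat.card F ^ k) = l := (pow_eq_self_iff (F := F) l k).2 hd
    have h3 : l * l ^ (Nat.card F ^ k - 1) = l * 1 := by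
      rw [← pow_succ', Nat.sub_add_cancel hq1, h2, mul_one]
    rw [← map_pow, mul_left_cancel₀ hl h3, map_one]
  have h2 : θ l ^ a' = (θ l ^ a) ^ (Nat.card F ^ j) := by
    rw [← pow_mul]
    have key : ∀ x : ℕ, θ l ^ x = θ l ^ (x % (Nat.card F ^ k - 1)) := by
      intro x
      conv_lhs => rw [← Nat.div_add_mod x (Nat.card F ^ k - 1), pow_add, pow_mul, h1, one_pow, one_mul]
    rw [key a', key (a * _), h]
  rw [h2]
  have hper : ∀ i, (θ l ^ a) ^ (Nat.card F ^ (i + (minpoly F l).natDegree)) = (θ l ^ a) ^ (Nat.card F ^ i) := by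
    intro i
    have h3 : l ^ (Nat.card F ^ (minpoly F l).natDegree) = l := (pow_eq_self_iff (F := F) l _).2 dvd_rfl
    rw [add_comm, pow_add, pow_mul, ← map_pow, ← map_pow, ← pow_mul, mul_comm a, pow_mul, h3]
  rw [← sum_shift (fun i => (θ l ^ a) ^ (Nat.card F ^ i)) hper j]
  refine Finset.sum_congr rfl fun i _ => ?_
  rw [← pow_mul, ← pow_add, add_comm j i]

/-- **`R_k(θ^a)` depends only on the Frobenius orbit of `a` modulo `q^k - 1`.** -/
theorem Rf_congr {N M : ℕ} (ctx : Ctx F θ N M) {k : ℕ} (hk : 0 < k) (hkN : k ≤ N) {a a' j : ℕ}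
    (h : a' ≡ a * Nat.card F ^ j [MOD (Nat.card F ^ k - 1)]) : Rf (F := F) θ k a' = Rf θ k a := by
  have := ctx.finF
  ext V _ _ _ T
  rw [Rf, Rf, comp_fn, comp_fn]
  split_ifs with hV
  · rw [kapF_fn, kapF_fn]
    refine kap_congr_B (lba_add θ a') (lba_add θ a) ?_ T
    intro f hf hirr hd
    exact lba_congr ctx hk hkN h hf hirr (hV ▸ hd)
  · rfl

section labels

open Cfsg.Agent.H577.GLB.Std
open MvPolynomial

variable {N M : ℕ} [NeZero M]

/-- the Frobenius invariance of the cuspidal class functions -/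
theorem Rc_frob (ctx : Ctx F θ N M) {k : ℕ} (hk : 0 < k) (hkN : k ≤ N) {c : ZMod M}
    (h : TorZ (Nat.card F : ℤ) M k c) (j : ℕ) :
    Rc (F := F) θ M k ((Nat.card F : ZMod M) ^ j * c) = Rc θ M k c := by
  have := ctx.finF
  have hq : 2 ≤ Nat.card F := Finite.one_lt_card
  refine Rf_congr ctx hk hkN (j := j) ?_
  exact (expo_modEq hq hk h (torZ_mul h _) j).2 rfl

theorem Rc_canon (ctx : Ctx F θ N M) {k : ℕ} (hk : 0 < k) (hkN : k ≤ N) {c : ZMod M}
    (h : TorZ (Nat.card F : ℤ) M k c) :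
    Rc (F := F) θ M k (canon (Nat.card F : ℤ) M c) = Rc θ M k c := by
  obtain ⟨j, hj⟩ := canon_spec (Nat.card F : ℤ) c
  rw [hj, Int.cast_natCast]
  exact Rc_frob ctx hk hkN h j

/-- **the realization of the cuspidal variables** -/
theorem piA_rv (ctx : Ctx F θ N M) {k : ℕ} (hk : 0 < k) (hkN : k ≤ N) {c : ZMod M}
    (h : TorZ (Nat.card F : ℤ) M k c) : piA (F := F) θ M (rv (Nat.card F : ℤ) M k c) = Rc θ M k c := by
  rw [rv, if_pos ⟨hk, h⟩, piA_X]
  exact Rc_canon ctx hk hkN h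

theorem piA_rv_zero {k : ℕ} {c : ZMod M} (h : ¬ (0 < k ∧ TorZ (Nat.card F : ℤ) M k c)) :
    piA (F := F) θ M (rv (Nat.card F : ℤ) M k c) = 0 := by
  rw [rv, if_neg h, map_zero]

end labels

end Cfsg.Agent.H623.GLn
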