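import Cfsg.Agent.H646.RegInner
import Cfsg.Agent.Blocks.CentralizerSum
import Mathlib.LinearAlgebra.TensorProduct.Basic
import Mathlib.RingTheory.TensorProduct.Basic
import Mathlib.GroupTheory.OrderOfElement

/-!
# S4536, (D4), abstract part

* `induced_of_pairing` : Brauer's second main theorem in pairing form: if `∑ χ(u c) conj ψ(c) ≠ 0` (sum over the
  `p`-regular `c ∈ C_G(u)`) then the block of `ψ` induces the block of `χ`;
* `classInner_prod` : such a sum for a direct product.
-/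

set_option autoImplicit false

open Cfsg
open scoped ComplexConjugate TensorProduct

namespace Cfsg.Agent.H623.GLn

open Cfsg.Agent.H646.RegInner Cfsg.Agent.Blocks.Local Cfsg.Agent.Blocks.Basic

section A

variable {G : Type*} [Group G] [Finite G] {p : ℕ} [Fact p.Prime] {𝔐 : Ideal AlgInt}

theorem induced_of_pairing (hM : IsPModular p 𝔐) {u : G} (hu : ∃ k : ℕ, orderOf u = p ^ k) {H : Subgroup G}
    (hH : H = Subgroup.centralizer ({u} : Set G)) {B : Set (IrrCharacter G)} (hB : IsPBlock 𝔐 B)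
    {χ : IrrCharacter G} (hχ : χ ∈ B) [Fintype H] {b : Set (IrrCharacter H)} (hb : IsPBlock 𝔐 b)
    {ψ : IrrCharacter H} (hψ : ψ ∈ b)
    (hne : classInner (pRegularPart p (fun c : H => (χ : G → ℂ) (u * (c : G)))) (ψ : H → ℂ) ≠ 0) :
    IsInducedBlock 𝔐 H b B := by
  classical
  by_contra hnot
  apply hne
  have := isPrime_of_isPModular hM
  have hfin : Finite (IrrCharacter H) := Cfsg.Agent.S0909.finite_irr
  have := Fintype.ofFinite (IrrCharacter H)
  set f : H → ℂ := fun c : H => (χ : G → ℂ) (u * (c : G)) with hf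
  have hcf : IsClassFunction H f := by
    intro g h
    have h1 : u * ((h * g * h⁻¹ : H) : G) = (h : G) * (u * (g : G)) * (h : G)⁻¹ := by
      have h2 : (h : G) * u = u * (h : G) := Subgroup.mem_centralizer_singleton_iff.1 (hH ▸ h.2)
      push_cast
      rw [← mul_assoc, ← mul_assoc, ← mul_assoc, h2]
    change (χ : G → ℂ) (u * ((h * g * h⁻¹ : H) : G)) = (χ : G → ℂ) (u * (g : G))
    rw [h1, irr_conj χ.2]
  have hexp := Characters.Core.classFunction_eq_sum hcf
  have h1 : pRegularPart p f = ∑ φ : IrrCharacter H, classInner f (φ : H → ℂ) • pRegularPart p (φ : H → ℂ) := by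
    conv_lhs => rw [hexp]
    rw [← regMap_apply, map_sum]
    refine Finset.sum_congr rfl fun φ _ => ?_
    rw [map_smul, regMap_apply]
  have h2 : pRegularPart p (blockPart b f) = ∑ φ : IrrCharacter H with φ ∈ b,
      classInner f (φ : H → ℂ) • pRegularPart p (φ : H → ℂ) := by
    have h3 : blockPart b f = ∑ φ : IrrCharacter H with φ ∈ b, classInner f (φ : H → ℂ) • (φ : H → ℂ) := by
      ext y
      rw [Cfsg.Agent.Blocks.CentralizerSum.blockPart_eq, finsum_mem_eq_finite_toFinset_sum _ (Set.toFinite b),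
        Finset.sum_apply]
      refine Finset.sum_congr ?_ fun φ _ => rfl
      ext φ
      simp
    rw [h3, ← regMap_apply, map_sum]
    refine Finset.sum_congr rfl fun φ _ => ?_
    rw [map_smul, regMap_apply]
  have h3 : pRegularPart p (blockPart b f) = 0 := by
    ext y
    rw [pRegularPart_apply]
    split_ifs with hy
    · rfl
    · exact Cfsg.Agent.Blocks.CentralizerSum.secondMain hM hu hH hB χ hχ hb hnot y hy
  have h4 : classInner (pRegularPart p f) (ψ : H → ℂ) = classInner (pRegularPart p (blockPart b f)) (ψ : H → ℂ) := by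
    rw [h1, h2, Characters.Core.classInner_sum_left, Characters.Core.classInner_sum_left, Finset.sum_filter]
    refine Finset.sum_congr rfl fun φ _ => ?_
    split_ifs with hφ
    · rfl
    · have h5 : classInner (pRegularPart p (φ : H → ℂ)) (ψ : H → ℂ) = 0 := by
        refine classInner_pRegularPart_eq_zero hM (isPBlock_blockOf φ) (mem_blockOf_self φ) ?_
        intro h6
        apply hφ
        have h7 := isPBlock_eq_blockOf hb hψ
        rw [h7]
        exact sameBlock_symm h6
      rw [Characters.Core.classInner_smul_left, h5, mul_zero]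
  rw [h4, h3, Characters.Core.classInner_zero_left]

end A

section P

variable {X₁ X₂ H : Type*} [Group X₁] [Group X₂] [Group H] [Fintype X₁] [Fintype X₂] [Fintype H] {p : ℕ}

theorem not_dvd_orderOf_prod (hp : p.Prime) (e : X₁ × X₂ ≃* H) (x : X₁ × X₂) :
    ¬ p ∣ orderOf (e x) ↔ ¬ p ∣ orderOf x.1 ∧ ¬ p ∣ orderOf x.2 := by
  rw [MulEquiv.orderOf_eq, Prod.orderOf, hp.dvd_lcm, not_or]

/-- the pairing over a direct product of a function given by tensors -/
theorem classInner_prod (hp : p.Prime) {R₁ R₂ : Type*} [AddCommGroup R₁] [Module ℂ R₁] [AddCommGroup R₂] [Module ℂ R₂]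
    (e : X₁ × X₂ ≃* H) (f : H → ℂ) (ψ : H → ℂ) (ψ₁ : X₁ → ℂ) (ψ₂ : X₂ → ℂ)
    (hψ : ∀ x : X₁ × X₂, ψ (e x) = ψ₁ x.1 * ψ₂ x.2) (e₁ : X₁ → R₁ →ₗ[ℂ] ℂ) (e₂ : X₂ → R₂ →ₗ[ℂ] ℂ) (w : R₁ ⊗[ℂ] R₂)
    (hf : ∀ x : X₁ × X₂, ¬ p ∣ orderOf x.1 → ¬ p ∣ orderOf x.2 →
      f (e x) = LinearMap.mul' ℂ ℂ (TensorProduct.map (e₁ x.1) (e₂ x.2) w))
    (l₁ : R₁ →ₗ[ℂ] ℂ) (l₂ : R₂ →ₗ[ℂ] ℂ)
    (hl₁ : ∀ a, l₁ a = classInner (pRegularPart p (fun x => e₁ x a)) ψ₁)
    (hl₂ : ∀ a, l₂ a = classInner (pRegularPart p (fun x => e₂ x a)) ψ₂) :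
    classInner (pRegularPart p f) ψ = LinearMap.mul' ℂ ℂ (TensorProduct.map l₁ l₂ w) := by
  have h1 : classInner (pRegularPart p f) ψ =
      (Nat.card X₁ : ℂ)⁻¹ * (Nat.card X₂ : ℂ)⁻¹ * ∑ x : X₁ × X₂, (if p ∣ orderOf x.1 then 0 else conj (ψ₁ x.1)) *
        (if p ∣ orderOf x.2 then 0 else conj (ψ₂ x.2)) *
        LinearMap.mul' ℂ ℂ (TensorProduct.map (e₁ x.1) (e₂ x.2) w) := by
    rw [Characters.Core.classInner_def, ← Nat.card_congr e.toEquiv, Nat.card_prod, Nat.cast_mul, mul_inv]
    congr 1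
    rw [← Equiv.sum_comp e.toEquiv]
    refine Finset.sum_congr rfl fun x _ => ?_
    change pRegularPart p f (e x) * conj (ψ (e x)) = _
    rw [pRegularPart_apply, hψ, map_mul]
    have h2 := not_dvd_orderOf_prod hp e x
    by_cases ha : p ∣ orderOf x.1
    · rw [if_pos, if_pos ha, zero_mul, zero_mul, zero_mul]
      by_contra h3
      exact (h2.1 h3).1 ha
    · by_cases hb : p ∣ orderOf x.2
      · rw [if_pos, if_pos hb, mul_zero, zero_mul, zero_mul]
        by_contra h3
        exact (h2.1 h3).2 hb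
      · rw [if_neg (h2.2 ⟨ha, hb⟩), if_neg ha, if_neg hb, hf x ha hb]
        ring
  rw [h1]
  clear h1 hf
  induction w with
  | zero => simp
  | add w w' hw hw' =>
    rw [map_add, map_add, ← hw, ← hw', ← mul_add, ← Finset.sum_add_distrib]
    congr 1
    refine Finset.sum_congr rfl fun x _ => ?_
    rw [map_add, map_add, mul_add]
  | tmul a b =>
    rw [TensorProduct.map_tmul, LinearMap.mul'_apply, hl₁, hl₂, Characters.Core.classInner_def,
      Characters.Core.classInner_def, mul_mul_mul_comm, Finset.sum_mul_sum, ← Finset.sum_product',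
      Finset.univ_product_univ]
    congr 1
    refine Finset.sum_congr rfl fun x _ => ?_
    rw [TensorProduct.map_tmul, LinearMap.mul'_apply, pRegularPart_apply, pRegularPart_apply]
    split_ifs
    · ring
    · ring
    · ring
    · ring

end P

end Cfsg.Agent.H623.GLn
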