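import Cfsg.Agent.H623.GLn.Cop
import Cfsg.Agent.H623.GLn.D4A
import Cfsg.Agent.H577.GLB.Lab
import Cfsg.Agent.H624.Sl.Defs

/-!
# S4536, `GL_n` half: the section pairing theorem

* `classInner_Om_gen` : (R2) for an arbitrary genuine polynomial against a homogeneous one;
* `map_coP_congr` : the coproduct of an element of `PGen` lies in `PGen ⊗ PGen`;
* `coprime_charpoly` : `z A` and `B` have coprime characteristic polynomials (`A`, `B` `p`-regular, `z ≠ 1` a `p`-element);
* `section_pairing` : the pairing of `c ↦ χ(u c)` (`c ∈ C(u)` `p`-regular, `u = (z, 1)`) with a character of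
  `C(u) = GL_k(E) × GL_m(F)` as a number of the standard model.
-/

set_option autoImplicit false

open Polynomial Cfsg
open scoped ComplexConjugate TensorProduct MatrixGroups

namespace Cfsg.Agent.H623.GLn

open Cfsg.Agent.H614.GLn Cfsg.Agent.H577.GLB.Std
open Cfsg.Agent.H577.GLB.Real (Om coP PhiF evA PGen frm)
open Cfsg.Agent.H614.GLn.RSt (form_add_left form_smul_left form_sum_left form_monomial_left)

universe u w

/-! ### monomials -/

section gen

variable {M : ℕ} [NeZero M]

open MvPolynomial in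
theorem X_eq_rv {Q : ℤ} {v : Var M} (hv : GenVar Q M v) : (X v : RS M) = rv Q M v.1 v.2 := by
  rw [rv, if_pos ⟨hv.1, hv.2.1⟩, hv.2.2]

open MvPolynomial in
theorem supported_le_genR (Q : ℤ) : supported ℂ {v : Var M | GenVar Q M v} ≤ GenR Q M := by
  rw [supported]
  refine Algebra.adjoin_le ?_
  rintro _ ⟨v, hv, rfl⟩
  rw [X_eq_rv hv]
  exact Algebra.subset_adjoin ⟨v, rfl⟩

open MvPolynomial in
theorem genVar_of_mem_genR {Q : ℤ} {x : RS M} (hx : x ∈ GenR Q M) {m : Var M →₀ ℕ} (hm : m ∈ x.support) :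
    ∀ v ∈ m.support, GenVar Q M v := by
  intro v hv
  have h1 := genR_le Q hx
  rw [mem_supported] at h1
  exact h1 ((mem_vars v).2 ⟨m, hm, hv⟩)

open MvPolynomial in
theorem monomial_mem_hom {Q : ℤ} {m : Var M →₀ ℕ} (hm : ∀ v ∈ m.support, GenVar Q M v) (c : ℂ) {n : ℕ}
    (hn : Finsupp.weight (fun v : Var M => v.1) m = n) : (monomial m c : RS M) ∈ Hom Q M n := by
  refine ⟨?_, ?_⟩
  · refine supported_le_genR Q ?_
    rw [mem_supported]
    intro v hv
    rw [Finset.mem_coe, mem_vars] at hv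
    obtain ⟨d, hd, hvd⟩ := hv
    have h1 := support_monomial_subset hd
    rw [Finset.mem_singleton] at h1
    exact hm v (h1 ▸ hvd)
  · exact isWeightedHomogeneous_monomial _ _ _ hn

end gen

section om

variable {F : Type u} [Field F] {K : Type w} [Field K] [Algebra F K] (θ : K →*₀ ℂ) (M : ℕ)

/-- `Om` as a linear map -/
noncomputable def omL (n : ℕ) : RS M →ₗ[ℂ] (GL (Fin n) F → ℂ) where
  toFun x := Om θ M n x
  map_add' x y := by
    ext g
    change (piA (F := F) θ M (x + y)).fn _ _ = (piA (F := F) θ M x).fn _ _ + (piA (F := F) θ M y).fn _ _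
    rw [map_add]
    rfl
  map_smul' c x := by
    ext g
    change (piA (F := F) θ M (c • x)).fn _ _ = c * (piA (F := F) θ M x).fn _ _
    rw [map_smul]
    rfl

theorem omL_apply (n : ℕ) (x : RS M) : omL (F := F) θ M n x = Om θ M n x := rfl

variable {M} [NeZero M] [Finite F]

open MvPolynomial in
/-- a monomial of the wrong weight vanishes on `GL_n` -/
theorem Om_monomial_ne {m : Var M →₀ ℕ} (c : ℂ) {n : ℕ} (hn : Finsupp.weight (fun v : Var M => v.1) m ≠ n) :
    Om (F := F) θ M n (monomial m c) = 0 := by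
  ext g
  change (piA (F := F) θ M (monomial m c)).fn _ _ = 0
  have h1 : piA (F := F) θ M (monomial m c) = c • pr (fun v : Var M => Rc (F := F) θ M v.1 v.2) (Finsupp.toMultiset m) := by
    rw [pr_toMultiset, piA, MvPolynomial.aeval_monomial, Algebra.smul_def]
  have h2 := hg_pr (fun v : Var M => Rc (F := F) θ M v.1 v.2) (d := fun v => v.1) (s := Finsupp.toMultiset m)
    fun v _ => hg_Rc θ M v.1 v.2
  rw [h1, Fam.smul_fn, h2, mul_zero]
  rw [Module.finrank_fin_fun, sum_toMultiset]
  exact fun h => hn h.symm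

variable {θ} {N : ℕ}

open MvPolynomial in
/-- **(R2)** for an arbitrary genuine polynomial against a homogeneous one -/
theorem classInner_Om_gen (ctx : Ctx F θ N M) {n : ℕ} (hn : n ≤ N) [Fintype (GL (Fin n) F)] {a y : RS M}
    (ha : a ∈ GenR (Nat.card F : ℤ) M) (hy : y ∈ Hom (Nat.card F : ℤ) M n) :
    classInner (Om (F := F) θ M n a) (Om (F := F) θ M n y) = form (Nat.card F : ℤ) M a y := by
  classical
  have h1 := support_sum_monomial_coeff a
  have h2 : Om (F := F) θ M n a = ∑ m ∈ a.support, Om (F := F) θ M n (monomial m (coeff m a)) := by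
    conv_lhs => rw [← h1]
    rw [← omL_apply, map_sum]
    rfl
  have h3 : form (Nat.card F : ℤ) M a y = ∑ m ∈ a.support, form (Nat.card F : ℤ) M (monomial m (coeff m a)) y := by
    conv_lhs => rw [← h1]
    rw [form_sum_left]
  rw [h2, h3, Characters.Core.classInner_sum_left]
  refine Finset.sum_congr rfl fun m hm => ?_
  by_cases hw : Finsupp.weight (fun v : Var M => v.1) m = n
  · exact ip_Om θ ctx hn (monomial_mem_hom (genVar_of_mem_genR ha hm) _ hw) hy
  · rw [Om_monomial_ne θ _ hw, Characters.Core.classInner_zero_left, form_monomial_left]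
    have h4 : coeff m y = 0 := by
      by_contra h5
      exact hw (Hom.weight hy (mem_support_iff.2 h5))
    rw [h4, map_zero, mul_zero, zero_mul]

end om

/-! ### the coproduct of an element of `PGen` -/

section pgen

variable {Q : ℤ} {M p : ℕ}

theorem coP_rv (k : ℕ) (c : ZMod M) : coP M (rv Q M k c) = rv Q M k c ⊗ₜ[ℂ] (1 : RS M) + (1 : RS M) ⊗ₜ[ℂ] rv Q M k c := by
  rw [rv]
  split_ifs with h
  · rw [coP, MvPolynomial.aeval_X]
  · rw [map_zero, TensorProduct.zero_tmul, TensorProduct.tmul_zero, add_zero]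

theorem coP_mem {x : RS M} (hx : x ∈ PGen Q M p) :
    coP M x ∈ (Algebra.TensorProduct.map (PGen Q M p).val (PGen Q M p).val).range := by
  have h1 : PGen Q M p ≤ ((Algebra.TensorProduct.map (PGen Q M p).val (PGen Q M p).val).range).comap (coP M) := by
    refine Algebra.adjoin_le ?_
    rintro _ ⟨k, c, hc, rfl⟩
    have h2 : rv Q M k c ∈ PGen Q M p := Algebra.subset_adjoin ⟨k, c, hc, rfl⟩
    refine ⟨(⟨rv Q M k c, h2⟩ : PGen Q M p) ⊗ₜ[ℂ] 1 + 1 ⊗ₜ[ℂ] (⟨rv Q M k c, h2⟩ : PGen Q M p), ?_⟩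
    change Algebra.TensorProduct.map (PGen Q M p).val (PGen Q M p).val _ = coP M (rv Q M k c)
    rw [map_add, Algebra.TensorProduct.map_tmul, Algebra.TensorProduct.map_tmul, coP_rv, map_one]
    rfl
  exact h1 hx

theorem map_coP_congr {x : RS M} (hx : x ∈ PGen Q M p) {g₁ g₁' g₂ g₂' : RS M →ₗ[ℂ] ℂ}
    (h₁ : ∀ a ∈ PGen Q M p, g₁ a = g₁' a) (h₂ : ∀ a ∈ PGen Q M p, g₂ a = g₂' a) :
    LinearMap.mul' ℂ ℂ (TensorProduct.map g₁ g₂ (coP M x)) =
      LinearMap.mul' ℂ ℂ (TensorProduct.map g₁' g₂' (coP M x)) := by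
  obtain ⟨w, hw⟩ := coP_mem hx
  rw [← hw]
  clear hw
  congr 1
  change TensorProduct.map g₁ g₂ (TensorProduct.map (PGen Q M p).val.toLinearMap (PGen Q M p).val.toLinearMap w) =
    TensorProduct.map g₁' g₂' (TensorProduct.map (PGen Q M p).val.toLinearMap (PGen Q M p).val.toLinearMap w)
  induction w with
  | zero => simp
  | add w w' hw hw' => simp only [map_add, hw, hw']
  | tmul a b =>
    simp only [TensorProduct.map_tmul]
    congr 1
    · exact h₁ _ a.2
    · exact h₂ _ b.2

theorem PGen_le : PGen Q M p ≤ GenR Q M := by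
  refine Algebra.adjoin_le ?_
  rintro _ ⟨k, c, -, rfl⟩
  exact Algebra.subset_adjoin ⟨(k, c), rfl⟩

theorem PhiF_mem_genR (f : ℕ) (a : RS M) : PhiF Q M f a ∈ GenR (Q ^ f) M := by
  induction a using MvPolynomial.induction_on with
  | C c => rw [MvPolynomial.algHom_C]; exact Subalgebra.algebraMap_mem _ c
  | add x y hx hy => rw [map_add]; exact Subalgebra.add_mem _ hx hy
  | mul_X x v hx =>
    rw [map_mul]
    refine Subalgebra.mul_mem _ hx ?_
    rw [PhiF, MvPolynomial.aeval_X]
    split_ifs with h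
    · exact Subalgebra.sum_mem _ fun j _ => Algebra.subset_adjoin ⟨(v.1 / f, (Q : ZMod M) ^ j * v.2), rfl⟩
    · exact Subalgebra.zero_mem _

theorem tauP_mem_genR [NeZero M] (a : RS M) : tauP Q M p a ∈ GenR Q M := by
  induction a using MvPolynomial.induction_on with
  | C c => rw [MvPolynomial.algHom_C]; exact Subalgebra.algebraMap_mem _ c
  | add x y hx hy => rw [map_add]; exact Subalgebra.add_mem _ hx hy
  | mul_X x v hx =>
    rw [map_mul]
    refine Subalgebra.mul_mem _ hx ?_
    rw [tauP, MvPolynomial.aeval_X]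
    refine Subalgebra.smul_mem _ (Subalgebra.sum_mem _ fun η _ => ?_) _
    exact Algebra.subset_adjoin ⟨(v.1, v.2 + η), rfl⟩

end pgen

/-! ### coprime characteristic polynomials -/

section cop2

variable {F : Type u} [Field F] {V₁ V₂ : Type u} [AddCommGroup V₁] [Module F V₁] [AddCommGroup V₂] [Module F V₂]
  [Finite V₁] [Finite V₂]

/-- a polynomial killing `T` with `P(A)` injective shows that the characteristic polynomials are coprime -/
theorem coprime_of_poly {A : V₁ →ₗ[F] V₁} {T : V₂ →ₗ[F] V₂} (P : F[X]) (hT : aeval T P = 0)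
    (hA : ∀ v, aeval A P v = 0 → v = 0) : IsCoprime A.charpoly T.charpoly := by
  classical
  by_contra h
  have h1 : ∃ g : F[X], Irreducible g ∧ g ∣ A.charpoly ∧ g ∣ T.charpoly := by
    rw [← EuclideanDomain.gcd_isUnit_iff] at h
    obtain ⟨g, hg, hgd⟩ := WfDvdMonoid.exists_irreducible_factor h (by
      intro h2
      exact (LinearMap.charpoly_monic A).ne_zero (EuclideanDomain.gcd_eq_zero_iff.1 h2).1)
    exact ⟨g, hg, hgd.trans (EuclideanDomain.gcd_dvd_left _ _), hgd.trans (EuclideanDomain.gcd_dvd_right _ _)⟩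
  obtain ⟨g, hg, hgA, hgT⟩ := h1
  obtain ⟨v, hv, hv0⟩ := (Submodule.ne_bot_iff _).1 (Cfsg.Agent.H139.Cusp.ker_aeval_ne_bot hg hgA)
  obtain ⟨w, hw, hw0⟩ := (Submodule.ne_bot_iff _).1 (Cfsg.Agent.H139.Cusp.ker_aeval_ne_bot hg hgT)
  have h2 : g ∣ P := by
    rw [hg.dvd_iff_not_isCoprime]
    rintro ⟨a, b, hab⟩
    apply hw0
    have h3 : aeval T (a * g + b * P) w = w := by rw [hab, map_one]; rfl
    rw [map_add, map_mul, map_mul, hT, mul_zero, add_zero, Module.End.mul_apply, LinearMap.mem_ker.1 hw, map_zero] at h3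
    exact h3.symm
  obtain ⟨c, rfl⟩ := h2
  apply hv0
  apply hA
  rw [mul_comm, map_mul, Module.End.mul_apply, LinearMap.mem_ker.1 hv, map_zero]

end cop2

/-! ### the section pairing -/

section sec

open Cfsg.Agent.H624.Sl (jj jj_mulVec scl)

variable {F : Type u} [Field F] [Finite F] {K : Type w} [Field K] [Algebra F K] {θ : K →*₀ ℂ} {N M : ℕ} [NeZero M]
  {p : ℕ}

variable {E : Type u} [Field E] [Finite E] [Algebra F E] {k m n : ℕ}

/-- the restriction of scalars of a matrix -/
noncomputable def rsM (F : Type u) [Field F] {E : Type u} [Field E] [Algebra F E] {k : ℕ} (A : Matrix (Fin k) (Fin k) E) :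
    (Fin k → E) →ₗ[F] (Fin k → E) := (Matrix.toLin' A).restrictScalars F

theorem fn_jj (f : Fam F) (e : ((Fin k → E) × (Fin m → F)) ≃ₗ[F] (Fin n → F)) (A : GL (Fin k) E) (B : GL (Fin m) F) :
    f.fn (Fin n → F) (Matrix.toLin' (jj e (A, B)).1) =
      f.fn ((Fin k → E) × (Fin m → F)) ((rsM F A.1).prodMap (Matrix.toLin' B.1)) := by
  refine f.conj' e ?_
  rintro ⟨v, w⟩
  rw [Matrix.toLin'_apply, jj_mulVec]
  rfl

/-- `z A` and `B` have coprime characteristic polynomials -/
theorem coprime_charpoly (hp : p.Prime) (z : Eˣ) (hz : ∃ a : ℕ, orderOf z = p ^ a) (hz1 : z ≠ 1) (A : GL (Fin k) E)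
    (B : GL (Fin m) F) (hA : ¬ p ∣ orderOf A) (hB : ¬ p ∣ orderOf B) :
    IsCoprime (rsM F ((z : E) • A.1)).charpoly (Matrix.toLin' B.1).charpoly := by
  set r := orderOf A * orderOf B with hr
  have hfA : 0 < orderOf A := orderOf_pos A
  have hfB : 0 < orderOf B := orderOf_pos B
  refine coprime_of_poly (X ^ r - 1) ?_ ?_
  · rw [map_sub, map_pow, aeval_X, map_one, sub_eq_zero]
    have h1 : B.1 ^ r = 1 := by
      have h2 : B ^ r = 1 := by rw [hr, mul_comm, pow_mul, pow_orderOf_eq_one, one_pow]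
      rw [← Units.val_pow_eq_pow_val, h2, Units.val_one]
    rw [← Matrix.toLin'_pow, h1, Matrix.toLin'_one]
    rfl
  · intro v hv
    rw [map_sub, map_pow, aeval_X, map_one, LinearMap.sub_apply, sub_eq_zero] at hv
    have h1 : ∀ i : ℕ, ((rsM F ((z : E) • A.1)) ^ i) v = (((z : E) • A.1) ^ i).mulVec v := by
      intro i
      induction i with
      | zero => rw [pow_zero, pow_zero, Matrix.one_mulVec]; rfl
      | succ i ih =>
        rw [pow_succ', Module.End.mul_apply, ih, pow_succ', ← Matrix.mulVec_mulVec]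
        rfl
    have h2 : (((z : E) • A.1) ^ r).mulVec v = ((z : E) ^ r) • v := by
      have h3 : A.1 ^ r = 1 := by
        have h4 : A ^ r = 1 := by rw [hr, pow_mul, pow_orderOf_eq_one, one_pow]
        rw [← Units.val_pow_eq_pow_val, h4, Units.val_one]
      rw [_root_.smul_pow, h3, Matrix.smul_mulVec, Matrix.one_mulVec]
    rw [h1, h2] at hv
    have h3 : ((z : E) ^ r - 1) • v = 0 := by
      rw [sub_smul, one_smul, hv]
      exact sub_self v
    rcases smul_eq_zero.1 h3 with h4 | h4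
    · exfalso
      apply hz1
      have h5 : z ^ r = 1 := by
        apply Units.ext
        rw [Units.val_pow_eq_pow_val, Units.val_one]
        exact sub_eq_zero.1 h4
      obtain ⟨a, ha⟩ := hz
      have h6 : orderOf z ∣ r := orderOf_dvd_of_pow_eq_one h5
      have h7 : Nat.Coprime (orderOf z) r := by
        rw [ha]
        refine Nat.Coprime.pow_left a ((Nat.Prime.coprime_iff_not_dvd hp).2 ?_)
        rw [hr, hp.dvd_mul, not_or]
        exact ⟨hA, hB⟩
      have h8 : orderOf z = 1 := Nat.Coprime.eq_one_of_dvd h7 h6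
      exact orderOf_eq_one_iff.1 h8
    · exact h4

/-- the direct product as a subgroup -/
noncomputable def prodE {X₁ X₂ G : Type*} [Group X₁] [Group X₂] [Group G] {H : Subgroup G} {j : X₁ × X₂ →* G}
    (hj : Function.Injective j) (hr : j.range = H) : X₁ × X₂ ≃* H :=
  MulEquiv.ofBijective (j.codRestrict H fun x => hr ▸ ⟨x, rfl⟩)
    ⟨fun x y h => hj (congrArg Subtype.val h), fun h => by
      obtain ⟨x, hx⟩ : (h : G) ∈ j.range := hr ▸ h.2
      exact ⟨x, Subtype.ext hx⟩⟩

theorem coe_prodE {X₁ X₂ G : Type*} [Group X₁] [Group X₂] [Group G] {H : Subgroup G} {j : X₁ × X₂ →* G}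
    (hj : Function.Injective j) (hr : j.range = H) (x : X₁ × X₂) : ((prodE hj hr x : H) : G) = j x := rfl

theorem frm_comp (Q : ℤ) (y a : RS M) : frm Q M y a = form Q M a y := rfl

/-- **The section pairing theorem.** -/
theorem section_pairing (hp : p.Prime) {N' f : ℕ} (ctx : Ctx F θ N M) [Algebra E K] (ctxE : Ctx E θ N' M)
    (hcard : (Nat.card E : ℤ) = (Nat.card F : ℤ) ^ f)
    (e : ((Fin k → E) × (Fin m → F)) ≃ₗ[F] (Fin n → F)) (z : Eˣ) (hz : ∃ a : ℕ, orderOf z = p ^ a) (hz1 : z ≠ 1)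
    (hk : k ≤ N') (hm : m ≤ N)
    (hext : ∀ A : GL (Fin k) E, ¬ p ∣ orderOf A → ∀ x ∈ PGen (Nat.card F : ℤ) M p,
      (piA (F := F) θ M x).fn (Fin k → E) (rsM F ((z : E) • A.1)) = Om (F := E) θ M k (PhiF (Nat.card F : ℤ) M f x) A)
    (R4E : ∀ x ∈ GenR (Nat.card E : ℤ) M, Om (F := E) θ M k (tauP (Nat.card E : ℤ) M p x) = pRegularPart p (Om (F := E) θ M k x))
    (R4F : ∀ x ∈ GenR (Nat.card F : ℤ) M, Om (F := F) θ M m (tauP (Nat.card F : ℤ) M p x) = pRegularPart p (Om (F := F) θ M m x))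
    {x : RS M} (hx : x ∈ PGen (Nat.card F : ℤ) M p) {y₁ y₂ : RS M} (hy₁ : y₁ ∈ Hom (Nat.card E : ℤ) M k)
    (hy₂ : y₂ ∈ Hom (Nat.card F : ℤ) M m) {H : Subgroup (GL (Fin n) F)} [Fintype H] (hinj : Function.Injective (jj e))
    (hH : (jj e).range = H) (ψ : H → ℂ)
    (hψ : ∀ (x : GL (Fin k) E × GL (Fin m) F) (h : H), jj e x = h →
      ψ h = Om (F := E) θ M k y₁ x.1 * Om (F := F) θ M m y₂ x.2) :
    classInner (pRegularPart p (fun c : H => Om (F := F) θ M n x (jj e (scl k z, 1) * (c : GL (Fin n) F)))) ψ =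
      LinearMap.mul' ℂ ℂ (TensorProduct.map
        (frm (Nat.card E : ℤ) M y₁ ∘ₗ (tauP (Nat.card E : ℤ) M p).toLinearMap ∘ₗ (PhiF (Nat.card F : ℤ) M f).toLinearMap)
        (frm (Nat.card F : ℤ) M y₂ ∘ₗ (tauP (Nat.card F : ℤ) M p).toLinearMap) (coP M x)) := by
  have := Fintype.ofFinite (GL (Fin k) E)
  have := Fintype.ofFinite (GL (Fin m) F)
  -- the two functionals
  let l₁ : RS M →ₗ[ℂ] ℂ := 
    { toFun := fun a => classInner (pRegularPart p (Om (F := E) θ M k (PhiF (Nat.card F : ℤ) M f a))) (Om (F := E) θ M k y₁)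
      map_add' := fun a b => by
        rw [map_add, ← omL_apply, map_add, ← Cfsg.Agent.H646.RegInner.regMap_apply, map_add,
          Characters.Core.classInner_add_left]
        rfl
      map_smul' := fun c a => by
        rw [map_smul, ← omL_apply, map_smul, ← Cfsg.Agent.H646.RegInner.regMap_apply, map_smul,
          Characters.Core.classInner_smul_left]
        rfl }
  let l₂ : RS M →ₗ[ℂ] ℂ := 
    { toFun := fun a => classInner (pRegularPart p (Om (F := F) θ M m a)) (Om (F := F) θ M m y₂)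
      map_add' := fun a b => by
        rw [← omL_apply, map_add, ← Cfsg.Agent.H646.RegInner.regMap_apply, map_add,
          Characters.Core.classInner_add_left]
        rfl
      map_smul' := fun c a => by
        rw [← omL_apply, map_smul, ← Cfsg.Agent.H646.RegInner.regMap_apply, map_smul,
          Characters.Core.classInner_smul_left]
        rfl }
  let e₁ : GL (Fin k) E → RS M →ₗ[ℂ] ℂ := fun A => evA θ M (Matrix.toLin' A.1) ∘ₗ (PhiF (Nat.card F : ℤ) M f).toLinearMap
  let e₂ : GL (Fin m) F → RS M →ₗ[ℂ] ℂ := fun B => evA θ M (Matrix.toLin' B.1)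
  have h1 := classInner_prod hp (prodE hinj hH) (fun c : H => Om (F := F) θ M n x (jj e (scl k z, 1) * (c : GL (Fin n) F))) ψ
    (Om (F := E) θ M k y₁) (Om (F := F) θ M m y₂) (fun x => hψ x _ (coe_prodE hinj hH x).symm) e₁ e₂ (coP M x) ?_ l₁ l₂
    (fun a => rfl) (fun a => rfl)
  · rw [h1]
    refine map_coP_congr hx ?_ ?_
    · intro a _
      have h2 : PhiF (Nat.card F : ℤ) M f a ∈ GenR (Nat.card E : ℤ) M := by
        rw [hcard]
        exact PhiF_mem_genR f a
      change classInner (pRegularPart p (Om (F := E) θ M k (PhiF (Nat.card F : ℤ) M f a))) (Om (F := E) θ M k y₁) =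
        form (Nat.card E : ℤ) M (tauP (Nat.card E : ℤ) M p (PhiF (Nat.card F : ℤ) M f a)) y₁
      rw [← R4E _ h2, classInner_Om_gen ctxE hk (tauP_mem_genR _) hy₁]
    · intro a ha
      have h2 := PGen_le ha
      change classInner (pRegularPart p (Om (F := F) θ M m a)) (Om (F := F) θ M m y₂) =
        form (Nat.card F : ℤ) M (tauP (Nat.card F : ℤ) M p a) y₂
      rw [← R4F _ h2, classInner_Om_gen ctx hm (tauP_mem_genR _) hy₂]
  · rintro ⟨A, B⟩ hA hB
    simp only at hA hB
    have h2 : jj e (scl k z, 1) * ((prodE hinj hH (A, B) : H) : GL (Fin n) F) = jj e (scl k z * A, B) := by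
      rw [coe_prodE, ← map_mul, Prod.mk_mul_mk, one_mul]
    have h3 : (scl k z * A).1 = (z : E) • A.1 := by
      rw [Units.val_mul, scl]
      change Matrix.scalar (Fin k) (z : E) * A.1 = (z : E) • A.1
      rw [Matrix.scalar_apply, ← Matrix.smul_eq_diagonal_mul]
    change (piA (F := F) θ M x).fn (Fin n → F) (Matrix.toLin' (jj e (scl k z, 1) * ((prodE hinj hH (A, B) : H) : GL (Fin n) F)).1) = _
    rw [h2, fn_jj, h3, ← piA_eq, ev_coprime θ M _ _ (coprime_charpoly hp z hz hz1 A B hA hB)]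
    exact map_coP_congr hx (fun a ha => hext A hA a ha) (fun a _ => rfl)

end sec

end Cfsg.Agent.H623.GLn
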