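import Cfsg.Agent.H577.GLB.Real
import Cfsg.Agent.H623.GLn.Real

/-!
# S4536, `GL_n` half, (R7): Harish-Chandra restriction is the coproduct of the standard model

* `evT θ M A T` : evaluation of a tensor at a pair of endomorphisms; `evT_mul` : its multiplicativity (Hall product);
* `Dl_piA` : `Dl (piA x) A T = evT A T (coP x)`;
* `ev_coprime` : the value of `piA x` at `A ⊕ T` with coprime characteristic polynomials;
* `ip_Om` : (R2) in terms of class functions of `GL (Fin n) F`.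
-/

set_option autoImplicit false

open Polynomial
open Cfsg.Agent.H614.GLn
open scoped TensorProduct ComplexConjugate

namespace Cfsg.Agent.H623.GLn

universe u w

section cop

open Cfsg.Agent.H577.GLB.Std
open Cfsg.Agent.H577.GLB.Real (evA coP Om)

variable {F : Type u} [Field F] {K : Type w} [Field K] [Algebra F K] (θ : K →*₀ ℂ) (M : ℕ)

theorem piA_eq : Cfsg.Agent.H577.GLB.Real.piA (F := F) θ M = piA θ M := rfl

theorem evA_apply {V : Type u} [AddCommGroup V] [Module F V] (T : V →ₗ[F] V) (x : RS M) :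
    evA θ M T x = (piA (F := F) θ M x).fn V T := rfl

variable {V₁ V₂ : Type u} [AddCommGroup V₁] [Module F V₁] [AddCommGroup V₂] [Module F V₂]

/-- evaluation of a tensor at a pair of endomorphisms -/
noncomputable def evT (A : V₁ →ₗ[F] V₁) (T : V₂ →ₗ[F] V₂) : RS M ⊗[ℂ] RS M →ₗ[ℂ] ℂ :=
  LinearMap.mul' ℂ ℂ ∘ₗ TensorProduct.map (evA θ M A) (evA θ M T)

variable {M}

theorem evT_tmul (A : V₁ →ₗ[F] V₁) (T : V₂ →ₗ[F] V₂) (a b : RS M) :
    evT θ M A T (a ⊗ₜ[ℂ] b) = (piA (F := F) θ M a).fn V₁ A * (piA (F := F) θ M b).fn V₂ T := by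
  rw [evT, LinearMap.comp_apply, TensorProduct.map_tmul, LinearMap.mul'_apply, evA_apply, evA_apply]

open Classical in
/-- the term of the product formula -/
noncomputable def tterm (z w : RS M ⊗[ℂ] RS M) (A : V₁ →ₗ[F] V₁) (T : V₂ →ₗ[F] V₂)
    (N : Submodule F V₁ × Submodule F V₂) : ℂ :=
  if h : N.1 ≤ N.1.comap A ∧ N.2 ≤ N.2.comap T then
    evT θ M (N.1.mapQ N.1 A h.1) (N.2.mapQ N.2 T h.2) z * evT θ M (A.restrict h.1) (T.restrict h.2) w else 0

theorem tterm_add_left (z z' w : RS M ⊗[ℂ] RS M) (A : V₁ →ₗ[F] V₁) (T : V₂ →ₗ[F] V₂)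
    (N : Submodule F V₁ × Submodule F V₂) :
    tterm θ (z + z') w A T N = tterm θ z w A T N + tterm θ z' w A T N := by
  rw [tterm, tterm, tterm]
  split_ifs with h
  · rw [map_add, add_mul]
  · rw [add_zero]

theorem tterm_add_right (z w w' : RS M ⊗[ℂ] RS M) (A : V₁ →ₗ[F] V₁) (T : V₂ →ₗ[F] V₂)
    (N : Submodule F V₁ × Submodule F V₂) :
    tterm θ z (w + w') A T N = tterm θ z w A T N + tterm θ z w' A T N := by
  rw [tterm, tterm, tterm]
  split_ifs with h
  · rw [map_add, mul_add]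
  · rw [add_zero]

theorem tterm_zero_left (w : RS M ⊗[ℂ] RS M) (A : V₁ →ₗ[F] V₁) (T : V₂ →ₗ[F] V₂)
    (N : Submodule F V₁ × Submodule F V₂) : tterm θ 0 w A T N = 0 := by
  rw [tterm]
  split_ifs with h
  · rw [map_zero, zero_mul]
  · rfl

theorem tterm_zero_right (z : RS M ⊗[ℂ] RS M) (A : V₁ →ₗ[F] V₁) (T : V₂ →ₗ[F] V₂)
    (N : Submodule F V₁ × Submodule F V₂) : tterm θ z 0 A T N = 0 := by
  rw [tterm]
  split_ifs with h
  · rw [map_zero, mul_zero]
  · rfl

theorem tterm_tmul (a b c d : RS M) (A : V₁ →ₗ[F] V₁) (T : V₂ →ₗ[F] V₂)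
    (N : Submodule F V₁ × Submodule F V₂) :
    tterm θ (a ⊗ₜ[ℂ] b) (c ⊗ₜ[ℂ] d) A T N =
      (piA (F := F) θ M a).term (piA θ M c) V₁ A N.1 * (piA (F := F) θ M b).term (piA θ M d) V₂ T N.2 := by
  by_cases h1 : N.1 ≤ N.1.comap A
  · by_cases h2 : N.2 ≤ N.2.comap T
    · rw [tterm, dif_pos ⟨h1, h2⟩, evT_tmul, evT_tmul, Fam.term_of h1, Fam.term_of h2]
      ring
    · rw [tterm, dif_neg fun h => h2 h.2, Fam.term_of_not h2, mul_zero]
  · rw [tterm, dif_neg fun h => h1 h.1, Fam.term_of_not h1, zero_mul]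

theorem evT_mul [Fintype (Submodule F V₁)] [Fintype (Submodule F V₂)] (z w : RS M ⊗[ℂ] RS M)
    (A : V₁ →ₗ[F] V₁) (T : V₂ →ₗ[F] V₂) :
    evT θ M A T (z * w) = ∑ N : Submodule F V₁ × Submodule F V₂, tterm θ z w A T N := by
  induction z with
  | zero =>
    rw [zero_mul, map_zero]
    exact (Finset.sum_eq_zero fun N _ => tterm_zero_left θ w A T N).symm
  | add z z' hz hz' =>
    rw [add_mul, map_add, hz, hz', ← Finset.sum_add_distrib]
    exact Finset.sum_congr rfl fun N _ => (tterm_add_left θ z z' w A T N).symm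
  | tmul a b =>
    induction w with
    | zero =>
      rw [mul_zero, map_zero]
      exact (Finset.sum_eq_zero fun N _ => tterm_zero_right θ _ A T N).symm
    | add w w' hw hw' =>
      rw [mul_add, map_add, hw, hw', ← Finset.sum_add_distrib]
      exact Finset.sum_congr rfl fun N _ => (tterm_add_right θ _ w w' A T N).symm
    | tmul c d =>
      rw [Algebra.TensorProduct.tmul_mul_tmul, evT_tmul, map_mul, map_mul, Fam.mul_fn', Fam.mul_fn',
        Finset.sum_mul_sum, ← Finset.sum_product', Finset.univ_product_univ]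
      exact Finset.sum_congr rfl fun N _ => (tterm_tmul θ a b c d A T N).symm

variable (M)

theorem Rc_sub {V : Type u} [AddCommGroup V] [Module F V] [Finite V] [hV : Subsingleton V] (T : V →ₗ[F] V)
    (k : ℕ) (c : ZMod M) : (Rc (F := F) θ M k c).fn V T = 0 := by
  rw [Rc, Rf, comp_fn]
  split_ifs with h
  · have h1 : (⊤ : Submodule F V) = ⊥ := Subsingleton.elim _ _
    rw [kapF_fn, h1, Cfsg.Agent.H139.Cusp.kap_bot _ (lba_add θ _)]
  · rfl

/-- the coproduct formula, all pairs of spaces -/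
theorem Dl_piA_all (x : RS M) : ∀ (V₁ V₂ : Type u) [AddCommGroup V₁] [Module F V₁] [AddCommGroup V₂]
    [Module F V₂] [Finite V₁] [Finite V₂] (A : V₁ →ₗ[F] V₁) (T : V₂ →ₗ[F] V₂),
    Dl (piA (F := F) θ M x) A T = evT θ M A T (coP M x) := by
  have hX : ∀ (v : Var M) (V₁ V₂ : Type u) [AddCommGroup V₁] [Module F V₁] [AddCommGroup V₂]
      [Module F V₂] [Finite V₁] [Finite V₂] (A : V₁ →ₗ[F] V₁) (T : V₂ →ₗ[F] V₂),
      Dl (piA (F := F) θ M (MvPolynomial.X v)) A T = evT θ M A T (coP M (MvPolynomial.X v)) := by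
    intro v V₁ V₂ _ _ _ _ _ _ A T
    rw [coP, MvPolynomial.aeval_X, map_add, evT_tmul, evT_tmul, piA_X, map_one]
    rcases subsingleton_or_nontrivial V₂ with h2 | h2
    · rw [Dl_right, Fam.one_fn, mul_one, Rc_sub θ M T, mul_zero, add_zero]
    · rw [Fam.one_fn' V₂ (not_subsingleton V₂), mul_zero, zero_add]
      rcases subsingleton_or_nontrivial V₁ with h1 | h1
      · rw [Dl_left, Fam.one_fn, one_mul]
      · rw [Fam.one_fn' V₁ (not_subsingleton V₁), zero_mul]
        exact (prm_Rc θ M v.1 v.2).Dl_eq_zero A T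
  induction x using MvPolynomial.induction_on with
  | C a =>
    intro V₁ V₂ _ _ _ _ _ _ A T
    have h1 : piA (F := F) θ M (MvPolynomial.C a) = a • (1 : Fam F) := by
      rw [← Algebra.algebraMap_eq_smul_one]
      exact AlgHom.commutes _ a
    have h2 : coP M (MvPolynomial.C a) = a • ((1 : RS M) ⊗ₜ[ℂ] (1 : RS M)) := by
      have h3 := AlgHom.commutes (coP M) a
      rw [Algebra.algebraMap_eq_smul_one (A := RS M ⊗[ℂ] RS M)] at h3
      exact h3
    rw [h1, h2, map_smul, evT_tmul, map_one, smul_eq_mul]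
    rcases subsingleton_or_nontrivial V₂ with h2 | h2
    · rw [Dl_right, Fam.one_fn V₂, mul_one]
      rfl
    · rw [Fam.one_fn' V₂ (not_subsingleton V₂), mul_zero, mul_zero, Dl]
      have : Finite (V₂ →ₗ[F] V₁) := finiteHom
      rw [← avg_zero (V₂ →ₗ[F] V₁)]
      refine avg_congr fun u => ?_
      rw [Fam.smul_fn, Fam.one_fn' _ ?_, mul_zero]
      exact fun h => not_subsingleton V₂ (Function.Surjective.subsingleton
        (f := (Prod.snd : V₁ × V₂ → V₂)) fun b => ⟨(0, b), rfl⟩)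
  | add x y hx hy =>
    intro V₁ V₂ _ _ _ _ _ _ A T
    have : Finite (V₂ →ₗ[F] V₁) := finiteHom
    rw [map_add, map_add, map_add, ← hx, ← hy, Dl, Dl, Dl, ← avg_add]
    rfl
  | mul_X x v hx =>
    intro V₁ V₂ _ _ _ _ _ _ A T
    classical
    have := Fintype.ofFinite (Submodule F V₁)
    have := Fintype.ofFinite (Submodule F V₂)
    rw [map_mul, map_mul, evT_mul, mackey]
    refine Finset.sum_congr rfl fun N _ => ?_
    rw [mterm, tterm]
    split_ifs with h
    · have := finite_quot' N.1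
      have := finite_quot' N.2
      rw [hx, hX]
    · rfl

/-- **(R7)** Harish-Chandra restriction is the coproduct. -/
theorem Dl_piA [Finite V₁] [Finite V₂] (A : V₁ →ₗ[F] V₁) (T : V₂ →ₗ[F] V₂) (x : RS M) :
    Dl (Cfsg.Agent.H577.GLB.Real.piA (F := F) θ M x) A T =
      LinearMap.mul' ℂ ℂ (TensorProduct.map (evA θ M A) (evA θ M T) (coP M x)) :=
  Dl_piA_all θ M x V₁ V₂ A T

/-! ### coprime characteristic polynomials -/

theorem fn_shear (f : Fam F) (A : V₁ →ₗ[F] V₁) (u t : V₂ →ₗ[F] V₁) (T : V₂ →ₗ[F] V₂) :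
    f.fn (V₁ × V₂) (blk A u T) = f.fn (V₁ × V₂) (blk A (u + (A ∘ₗ t - t ∘ₗ T)) T) := by
  refine f.conj' (shear t) ?_
  rintro ⟨a, b⟩
  simp only [shear_apply, blk_apply, map_add, LinearMap.add_apply, LinearMap.sub_apply, LinearMap.comp_apply]
  refine Prod.ext ?_ rfl
  simp only
  abel

theorem eq_zero_of_coprime [Finite V₁] [Finite V₂] {A : V₁ →ₗ[F] V₁} {T : V₂ →ₗ[F] V₂}
    (h : IsCoprime A.charpoly T.charpoly) {t : V₂ →ₗ[F] V₁} (ht : A ∘ₗ t = t ∘ₗ T) : t = 0 := by
  have key : ∀ p : F[X], aeval A p ∘ₗ t = t ∘ₗ aeval T p := by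
    intro p
    induction p using Polynomial.induction_on' with
    | add p q hp hq => rw [map_add, map_add, LinearMap.add_comp, LinearMap.comp_add, hp, hq]
    | monomial n a =>
      have h1 : (A ^ n) ∘ₗ t = t ∘ₗ (T ^ n) := by
        induction n with
        | zero => rfl
        | succ n ih =>
          rw [pow_succ, pow_succ]
          change (A ^ n) ∘ₗ (A ∘ₗ t) = (t ∘ₗ (T ^ n)) ∘ₗ T
          rw [ht, ← ih]
          rfl
      rw [aeval_monomial, aeval_monomial]
      ext v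
      have h2 := LinearMap.congr_fun h1 v
      simp only [LinearMap.comp_apply] at h2
      simp only [LinearMap.comp_apply, Module.End.mul_apply, Module.algebraMap_end_apply, map_smul, h2]
  obtain ⟨a, b, hab⟩ := h
  have h1 := key (b * T.charpoly)
  have h2 : aeval T (b * T.charpoly) = 0 := by rw [map_mul, LinearMap.aeval_self_charpoly, mul_zero]
  have h3 : aeval A (b * T.charpoly) = 1 := by
    have h4 : aeval A (a * A.charpoly + b * T.charpoly) = (1 : Module.End F V₁) := by rw [hab, map_one]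
    rwa [map_add, map_mul, LinearMap.aeval_self_charpoly, mul_zero, zero_add] at h4
  rw [h2, h3] at h1
  rw [LinearMap.comp_zero] at h1
  exact h1

theorem Dl_coprime [Finite V₁] [Finite V₂] {A : V₁ →ₗ[F] V₁} {T : V₂ →ₗ[F] V₂}
    (h : IsCoprime A.charpoly T.charpoly) (f : Fam F) : Dl f A T = f.fn (V₁ × V₂) (A.prodMap T) := by
  have hfin : Finite (V₂ →ₗ[F] V₁) := finiteHom
  let φ : (V₂ →ₗ[F] V₁) →+ (V₂ →ₗ[F] V₁) :=
    { toFun := fun t => A ∘ₗ t - t ∘ₗ T
      map_zero' := by rw [LinearMap.comp_zero, LinearMap.zero_comp, sub_zero]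
      map_add' := fun s t => by rw [LinearMap.comp_add, LinearMap.add_comp]; abel }
  have hφ : Function.Injective φ := by
    rw [injective_iff_map_eq_zero]
    intro t ht
    exact eq_zero_of_coprime h (sub_eq_zero.1 ht)
  have hφ' : Function.Surjective φ := Finite.surjective_of_injective hφ
  have h1 : ∀ u : V₂ →ₗ[F] V₁, f.fn (V₁ × V₂) (blk A u T) = f.fn (V₁ × V₂) (A.prodMap T) := by
    intro u
    obtain ⟨t, ht⟩ := hφ' (-u)
    rw [fn_shear f A u t T]
    have h2 : A ∘ₗ t - t ∘ₗ T = -u := ht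
    rw [h2, add_neg_cancel]
    congr 1
    ext v
    · simp
    · simp
    · simp
    · simp
  rw [Dl, avg_congr h1, avg_const]

/-- **(R6a)** the value at a direct sum of endomorphisms with coprime characteristic polynomials -/
theorem ev_coprime [Finite V₁] [Finite V₂] (A : V₁ →ₗ[F] V₁) (T : V₂ →ₗ[F] V₂)
    (h : IsCoprime A.charpoly T.charpoly) (x : RS M) :
    (Cfsg.Agent.H577.GLB.Real.piA (F := F) θ M x).fn (V₁ × V₂) (A.prodMap T) =
      LinearMap.mul' ℂ ℂ (TensorProduct.map (evA θ M A) (evA θ M T) (coP M x)) := by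
  rw [← Dl_piA, Dl_coprime h]

/-! ### (R2) for class functions of `GL (Fin n) F` -/

variable {M}

theorem ip_eq_classInner {n : ℕ} [Fintype (GL (Fin n) F)] (f g : Fam F) :
    Cfsg.classInner (fun x : GL (Fin n) F => f.fn (Fin n → F) (Matrix.toLin' (x : Matrix (Fin n) (Fin n) F)))
      (fun x : GL (Fin n) F => g.fn (Fin n → F) (Matrix.toLin' (x : Matrix (Fin n) (Fin n) F))) = ip n f g := by
  rw [ip_eq_ipV, ipV, ← avg_equiv (Matrix.GeneralLinearGroup.toLin (n := Fin n) (R := F)).toEquiv, avg_eq]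
  rfl

/-- **(R2)** the inner product of the class functions of `GL (Fin n) F` is the Wick form. -/
theorem ip_Om [NeZero M] {N : ℕ} (ctx : Ctx F θ N M) {n : ℕ} (hn : n ≤ N) [Fintype (GL (Fin n) F)] {x y : RS M}
    (hx : x ∈ Hom (Nat.card F : ℤ) M n) (hy : y ∈ Hom (Nat.card F : ℤ) M n) :
    Cfsg.classInner (Om (F := F) θ M n x) (Om (F := F) θ M n y) = form (Nat.card F) M x y :=
  (ip_eq_classInner _ _).trans (ip_piA ctx hn hx hy)

end cop

end Cfsg.Agent.H623.GLn
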