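import Cfsg.Agent.H623.GLn.D4S
import Cfsg.Agent.H117.GLn.LowerSpan
import Cfsg.Agent.H688.D4.F2
import Cfsg.Agent.H648.HarrisKnorr
import Cfsg.Agent.S0917
import Cfsg.Agent.H142.GLn.Base
import Cfsg.Agent.H947.GLn.CuspFix

/-!
# S4536, (D4): the reduction step, the chain and the elementary abelian subgroup of the defect group
-/

set_option autoImplicit false

open Cfsg
open scoped ComplexConjugate TensorProduct MatrixGroups

namespace Cfsg.Agent.H623.GLn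

open Cfsg.Agent.H614 Cfsg.Agent.H614.GLn Cfsg.Agent.H577.GLB.Std Cfsg.Agent.H624.Sl Cfsg.Agent.Blocks.Local
open Cfsg.Agent.H577.GLB.Real (Om coP PhiF PGen frm IsLab linH)
open Cfsg.Agent.Blocks.Basic
open Cfsg.Agent.H117.GLn (SchP_mem_PGen lower_mem_span)
open Cfsg.Agent.H688.D4 (totW_step exists_of_totW_pos SF_step)
open Cfsg.Agent.H947.GLn (cusp_fix)

universe u

variable {F : Type u} [Field F] [Finite F] {K : Type u} [Field K] [Algebra F K] {θ : K →*₀ ℂ} {N M : ℕ} [NeZero M]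
  {p : ℕ} {𝔐 : Ideal AlgInt}

theorem orth (Q : ℤ) (M : ℕ) [NeZero M] (hQ : IsUnit (Q : ZMod M)) : Cfsg.Agent.H76.GLB.Orth Q M := by
  intro m n _ t t'
  rw [RSt.form_SchP hQ t t']
  constructor
  · rintro rfl
    rw [if_pos rfl]
  · intro h
    rw [if_neg fun h' => h (LabZ.ext h')]

/-- `q` is a unit modulo `p` -/
theorem isUnit_card_p (hp : p.Prime) (hpF : p ≠ ringChar F) : IsUnit (((Nat.card F : ℕ) : ZMod p)) := by
  have := Fintype.ofFinite F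
  have := ringChar.charP F
  obtain ⟨k, hr, hc⟩ := FiniteField.card F (ringChar F)
  rw [ZMod.isUnit_iff_coprime, Nat.card_eq_fintype_card, hc]
  exact Nat.Coprime.pow_left _ ((Nat.coprime_primes hr hp).2 fun h => hpF h.symm)

/-- the data of a reduction step of the block `B` of `GL_n(F)` with the label `t` -/
def Red (F : Type u) [Field F] [Finite F] {K : Type u} [Field K] [Algebra F K] (θ : K →*₀ ℂ) (M p : ℕ) [NeZero M]
    (𝔐 : Ideal AlgInt) (m n : ℕ) (B : Set (IrrCharacter (GL (Fin n) F))) (t : LabZ (Nat.card F) M m n) : Prop :=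
  ∃ (l k : ℕ) (E : Type u) (_ : Field E) (_ : Finite E) (_ : Algebra F E)
    (e : ((Fin k → E) × (Fin l → F)) ≃ₗ[F] (Fin n → F)) (z : Eˣ) (θ₀ : IrrCharacter (GL (Fin k) E))
    (b₂ : Set (IrrCharacter (GL (Fin l) F))) (χ₂ : IrrCharacter (GL (Fin l) F)) (t₂ : LabZ (Nat.card F) M m l),
    l ≤ n ∧ 0 < k ∧ ¬ p ∣ k ∧ (∃ a : ℕ, orderOf z = p ^ a) ∧ z ≠ 1 ∧ Algebra.adjoin F {(z : E)} = ⊤ ∧
    IsCusp (θ₀ : GL (Fin k) E → ℂ) ∧
    (∀ a : ZMod M, SF (Nat.card F) M p t a →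
      FixIrr (dch k ((linH F θ M a).comp (Cfsg.Agent.H624.Sl.nrm F E))) (θ₀ : GL (Fin k) E → ℂ)) ∧
    IsPBlock 𝔐 b₂ ∧
    IsInducedBlock 𝔐 (Subgroup.centralizer ({jj e (scl k z, 1)} : Set (GL (Fin n) F)))
      (prodBlk (Subgroup.centralizer ({jj e (scl k z, 1)} : Set (GL (Fin n) F))) (jj e)
        (blockOf 𝔐 (θ₀ : GL (Fin k) E → ℂ)) b₂) B ∧
    χ₂ ∈ b₂ ∧ IsLab θ M m l χ₂ t₂ ∧ POnly M p t₂.t ∧
    totW (Nat.card F) M p t₂.t + 1 = totW (Nat.card F) M p t.t ∧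
    (∀ a : ZMod M, SF (Nat.card F) M p t a → SF (Nat.card F) M p t₂ a)

/-- **The reduction step.** -/
theorem exists_red (hctx : Ctx F θ N M) (hpF : p ≠ ringChar F) (h𝔐 : IsPModular p 𝔐) {m n : ℕ} (hn : n ≤ N)
    (hm : n ≤ m) {B : Set (IrrCharacter (GL (Fin n) F))} (hB : IsPBlock 𝔐 B) {χ : IrrCharacter (GL (Fin n) F)}
    (hχ : χ ∈ B) {t : LabZ (Nat.card F) M m n} (ht : IsLab θ M m n χ t) (ht' : POnly M p t.t)
    (hw : 0 < totW (Nat.card F) M p t.t) : Red F θ M p 𝔐 m n B t := by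
  classical
  have hp : p.Prime := h𝔐.1
  have : Fact p.Prime := ⟨hp⟩
  have := isPrime_of_isPModular h𝔐
  have hQ : IsUnit (((Nat.card F : ℕ) : ℤ) : ZMod M) := Cfsg.Agent.H112.GLB.isUnit_card hctx
  have hQp' : IsUnit ((Nat.card F : ℕ) : ZMod p) := isUnit_card_p hp hpF
  have hQp : IsUnit (((Nat.card F : ℕ) : ℤ) : ZMod p) := by
    rw [Int.cast_natCast]
    exact hQp'
  obtain ⟨δ, hδ, hwδ⟩ := exists_of_totW_pos t hw
  obtain ⟨hle, l, hl, t₁, ht₁, h₁, hcol, hew, hform, hspan⟩ :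
      eD ((Nat.card F : ℕ) : ℤ) M p δ * perZ ((Nat.card F : ℕ) : ℤ) M δ ≤ n ∧
      ∃ l : ℕ, l = n - eD ((Nat.card F : ℕ) : ℤ) M p δ * perZ ((Nat.card F : ℕ) : ℤ) M δ ∧
      ∃ t₁ : LabZ ((Nat.card F : ℕ) : ℤ) M m l, POnly M p t₁.t ∧
      (∀ δ', ¬ SameZ ((Nat.card F : ℕ) : ℤ) M δ δ' → t₁.t δ' = t.t δ') ∧
      SameCol (eD ((Nat.card F : ℕ) : ℤ) M p δ) (t₁.t δ) (t.t δ) ∧
      ewt (eD ((Nat.card F : ℕ) : ℤ) M p δ) (t₁.t δ) + 1 = ewt (eD ((Nat.card F : ℕ) : ℤ) M p δ) (t.t δ) ∧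
      form ((Nat.card F : ℕ) : ℤ) M (MvPolynomial.pderiv
        (eD ((Nat.card F : ℕ) : ℤ) M p δ * perZ ((Nat.card F : ℕ) : ℤ) M δ, canon ((Nat.card F : ℕ) : ℤ) M δ)
        (SchP ((Nat.card F : ℕ) : ℤ) M t.t)) (SchP ((Nat.card F : ℕ) : ℤ) M t₁.t) ≠ 0 ∧
      MvPolynomial.pderiv
        (eD ((Nat.card F : ℕ) : ℤ) M p δ * perZ ((Nat.card F : ℕ) : ℤ) M δ, canon ((Nat.card F : ℕ) : ℤ) M δ)
        (SchP ((Nat.card F : ℕ) : ℤ) M t.t) ∈ Submodule.span ℂ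
        {x : RS M | ∃ t' : LabZ ((Nat.card F : ℕ) : ℤ) M m l, POnly M p t'.t ∧ x = SchP ((Nat.card F : ℕ) : ℤ) M t'.t} := by
    obtain ⟨hle, t₁, ht₁, h₁, hcol, hew, hform⟩ :=
      Cfsg.Agent.H76.GLB.exists_lower (orth _ M hQ) hp hQ hQp hm t ht' δ hδ hwδ
    exact ⟨hle, _, rfl, t₁, ht₁, h₁, hcol, hew, hform, lower_mem_span hp hQ hQp hm t ht' δ hδ hwδ⟩
  obtain ⟨s, k, hsk, hpk, hk, hper, horb⟩ := Cfsg.Agent.H157.GLB.exists_split hp hQ hQp δ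
  set f := orderOf ((((Nat.card F : ℕ) : ℤ)) : ZMod p) * p ^ s with hfdef
  have hf : 0 < f := by
    rcases Nat.eq_zero_or_pos f with h | h
    · exfalso
      rw [h, zero_mul] at hsk
      have h1 := Cfsg.Agent.H76.GLB.eD_pos (M := M) hp hQp δ
      have h2 := RSt.perZ_pos hQ δ
      exact (Nat.mul_pos h1 h2).ne' hsk
    · exact h
  rw [hsk] at hle hl hform hspan
  have hfn : f ≤ n := (Nat.le_mul_of_pos_right f hk).trans hle
  have hln : l ≤ n := by rw [hl]; exact Nat.sub_le _ _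
  have hford : orderOf ((Nat.card F : ℕ) : ZMod p) * p ^ s = f := by
    rw [hfdef, Int.cast_natCast]
  obtain ⟨E, z, hE, hz, hz1, hgen, hfinE, hctxE'⟩ :=
    Cfsg.Agent.H505.S4536.Ext.exists_ext_data hctx hp hQp' s (by rw [hford]; exact hfn.trans hn)
  rw [hford] at hE hctxE'
  have hctxE : Ctx E θ k M := hctxE' k (hle.trans hn)
  have hcard : ((Nat.card E : ℕ) : ℤ) = ((Nat.card F : ℕ) : ℤ) ^ f := by
    rw [← hE, ← Nat.cast_pow]
    congr 1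
    exact Module.natCard_eq_pow_finrank
  have hperE : perZ ((Nat.card E : ℕ) : ℤ) M δ = k := by rw [hcard]; exact hper
  obtain ⟨θ₀, hcusp, hθ₀⟩ := Cfsg.Agent.H583.GLn.exists_cusp hctxE hk le_rfl δ hperE
  have hT : TorZ ((Nat.card E : ℕ) : ℤ) M k δ := (RSt.torZ_iff k δ).2 (by rw [hperE])
  -- the block of the smaller group
  obtain ⟨t₂, hne, hfam₂⟩ := exists_t2 hp hQ hQp (hln.trans hm) hspan t₁ hform
  obtain ⟨χ₂, ht₂, -⟩ := (Cfsg.Agent.H577.GLB.Real.isLab_bij hctx (hln.trans hn) (hln.trans hm)).2 t₂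
  -- the isomorphism
  have hfr : Module.finrank F ((Fin k → E) × (Fin l → F)) = Module.finrank F (Fin n → F) := by
    rw [Module.finrank_prod, Module.finrank_pi_fintype, Finset.sum_const, Finset.card_univ, Fintype.card_fin,
      smul_eq_mul, hE, Module.finrank_fin_fun, Module.finrank_fin_fun, hl, mul_comm k f]
    omega
  let e : ((Fin k → E) × (Fin l → F)) ≃ₗ[F] (Fin n → F) := LinearEquiv.ofFinrankEq _ _ hfr
  obtain ⟨H, hH⟩ : ∃ H : Subgroup (GL (Fin n) F), H = Subgroup.centralizer ({jj e (scl k z, 1)} : Set (GL (Fin n) F)) :=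
    ⟨_, rfl⟩
  have hHr : (jj e).range = H := by
    rw [hH]
    exact Cfsg.Agent.H901.Sl.centralizer_jj e z hz1 hgen
  have hinj := Cfsg.Agent.H901.Sl.jj_injective e
  have := Fintype.ofFinite H
  obtain ⟨ψ, hψ⟩ := Cfsg.Agent.H76.GLB.exists_prodChar hinj hHr θ₀ χ₂
  have hpair := pairing_ne_zero hctx hp hpF hn hQ ht (SchP_mem_PGen hQ t.t ht') hδ hf hk hle hln E hctxE hE hT e z hz hz1
    hgen t₂ hne hθ₀ ht₂ hHr ψ hψ
  have hu : ∃ a : ℕ, orderOf (jj e (scl k z, 1)) = p ^ a := by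
    obtain ⟨a, ha⟩ := hz
    have h1 : (jj e (scl k z, 1)) ^ p ^ a = 1 := by
      rw [← map_pow, Prod.pow_mk, one_pow]
      have h2 : (scl k z) ^ p ^ a = 1 := by
        have h3 : (scl k z : GL (Fin k) E) = Units.map (Matrix.scalar (Fin k)).toMonoidHom z := rfl
        rw [h3, ← map_pow, ← ha, pow_orderOf_eq_one, map_one]
      rw [h2]
      exact map_one (jj e)
    obtain ⟨b, -, hb⟩ := (Nat.dvd_prime_pow hp).1 (orderOf_dvd_of_pow_eq_one h1)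
    exact ⟨b, hb⟩
  have hind := induced_of_pairing h𝔐 hu hH hB hχ (isPBlock_blockOf ψ) (mem_blockOf_self ψ) hpair
  rw [← Cfsg.Agent.H76.GLB.prodBlk_blockOf h𝔐 hinj hHr θ₀ χ₂ ψ hψ] at hind
  -- a character with a `p'`-label in the block
  have hlab : Cfsg.Agent.H112.GLB.LabBij F θ M m l :=
    Cfsg.Agent.H577.GLB.Real.isLab_bij hctx (hln.trans hn) (hln.trans hm)
  obtain ⟨χ₂', hχ₂', t₂', ht₂', ht₂p⟩ := Cfsg.Agent.H112.GLB.exists_pOnly_mem_of hctx h𝔐 (hln.trans hn) hlab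
    (Cfsg.Agent.H112.GLB.tauReal hctx hp hpF (hln.trans hn))
    (fun S hS hcl => Cfsg.Agent.H505.S4536.DC.Fin.exists_pOnly hp hQ hQp (hln.trans hm) S hS hcl)
    (isPBlock_blockOf (M := 𝔐) χ₂)
  have hfam' : SameFam ((Nat.card F : ℕ) : ℤ) M p t₂.t t₂'.t :=
    Cfsg.Agent.H112.GLB.sameFam_of_mem_of hctx hpF h𝔐 (hln.trans hn) (hln.trans hm) hlab (isPBlock_blockOf χ₂)
      (mem_blockOf_self χ₂) hχ₂' ht₂ ht₂'
  have hfam'' := SameFam.trans' hfam₂ hfam'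
  refine ⟨l, k, E, inferInstance, hfinE, inferInstance, e, z, θ₀, blockOf 𝔐 (χ₂ : GL (Fin l) F → ℂ), χ₂', t₂', hln, hk, hpk,
    hz, hz1, hgen, hcusp, ?_, isPBlock_blockOf χ₂, ?_, hχ₂', ht₂', ht₂p, ?_, ?_⟩
  · intro a ha
    obtain ⟨j, hj⟩ := horb a ha.1.2.1 ha.1.1 (ha.2 δ hδ hwδ)
    refine cusp_fix hctx ((Nat.succ_le_of_lt hf).trans (hfn.trans hn)) E hk hctxE δ a ha.1.1 ⟨j, ?_⟩ hT θ₀ hθ₀
    rw [hj, ← hcard, Int.cast_natCast]
  · rw [← hH]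
    exact hind
  · rw [Cfsg.Agent.H157.GLB.totW_congr hp hQ hQp (hln.trans hm) t₁ t₂' ht₁ ht₂p hfam'']
    exact totW_step hp hQ hQp t t₁ δ hδ h₁ hew
  · intro a ha
    exact SF_step hp hQ hQp hm (hln.trans hm) t ht' t₁ t₂' ht₁ ht₂p δ hδ hwδ h₁ hcol hew hfam'' ha

/-- base case of the chain: weight zero means defect zero, and the strong stabiliser fixes the character -/
theorem base_chain (hctx : Ctx F θ N M) (hpF : p ≠ ringChar F) (h𝔐 : IsPModular p 𝔐) {m n : ℕ} (hn : n ≤ N)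
    (hm : n ≤ m) {χ : IrrCharacter (GL (Fin n) F)} {t : LabZ (Nat.card F) M m n} (ht : IsLab θ M m n χ t)
    (ht' : POnly M p t.t) (h0 : totW (Nat.card F) M p t.t = 0) :
    (charDegree (χ : GL (Fin n) F → ℂ)).factorization p = (Nat.card (GL (Fin n) F)).factorization p ∧
    ∀ a : ZMod M, SF (Nat.card F) M p t a → FixIrr (dch n (linH F θ M a)) (χ : GL (Fin n) F → ℂ) := by
  have hQ : IsUnit (((Nat.card F : ℕ) : ℤ) : ZMod M) := Cfsg.Agent.H112.GLB.isUnit_card hctx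
  have hQp : IsUnit (((Nat.card F : ℕ) : ℤ) : ZMod p) := by
    rw [Int.cast_natCast]
    exact isUnit_card_p h𝔐.1 hpF
  exact Cfsg.Agent.H142.GLn.base_of_alone hctx h𝔐.1 hpF hn hm ht fun t' h =>
    Cfsg.Agent.H157.GLB.eq_of_totW_zero h𝔐.1 hQ hQp hm t t' ht' h0 h

/-- **(D4)** the chain of a block of `GL_n(F)`. -/
theorem exists_chain_aux (hctx : Ctx F θ N M) (hpF : p ≠ ringChar F) (h𝔐 : IsPModular p 𝔐) (w : ℕ) :
    ∀ {m n : ℕ}, n ≤ N → n ≤ m → ∀ {B : Set (IrrCharacter (GL (Fin n) F))}, IsPBlock 𝔐 B →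
      ∀ {χ : IrrCharacter (GL (Fin n) F)}, χ ∈ B → ∀ {t : LabZ (Nat.card F) M m n}, IsLab θ M m n χ t →
      POnly M p t.t → totW (Nat.card F) M p t.t = w → ∀ a : ZMod M, SF (Nat.card F) M p t a →
      Chain p 𝔐 (linH F θ M a) n B := by
  have := isPrime_of_isPModular h𝔐
  induction w with
  | zero =>
    intro m n hn hm B hB χ hχ t ht ht' h0 a ha
    obtain ⟨h1, h2⟩ := base_chain hctx hpF h𝔐 hn hm ht ht' h0
    rw [isPBlock_eq_blockOf hB hχ]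
    exact Chain.zero χ h1 (h2 a ha)
  | succ w ih =>
    intro m n hn hm B hB χ hχ t ht ht' h0 a ha
    obtain ⟨l, k, E, hE1, hE2, hE3, e, z, θ₀, b₂, χ₂, t₂, hln, hk, hpk, hz, hz1, hgen, hcusp, hfix, hb₂, hind, hχ₂, ht₂,
      ht₂p, hw, hSF⟩ := exists_red hctx hpF h𝔐 hn hm hB hχ ht ht' (h0 ▸ Nat.succ_pos w)
    rw [h0] at hw
    exact Chain.step E e z hz hz1 hgen hk hpk θ₀ hcusp (hfix a ha) b₂ B hind
      (ih (hln.trans hn) (hln.trans hm) hb₂ hχ₂ ht₂ ht₂p (Nat.succ_injective hw) a (hSF a ha))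

/-- **(D4)** the chain of a block of `GL_n(F)`. -/
theorem exists_chain (hctx : Ctx F θ N M) (hpF : p ≠ ringChar F) (h𝔐 : IsPModular p 𝔐) {m n : ℕ} (hn : n ≤ N)
    (hm : n ≤ m) {B : Set (IrrCharacter (GL (Fin n) F))} (hB : IsPBlock 𝔐 B) {χ : IrrCharacter (GL (Fin n) F)}
    (hχ : χ ∈ B) {t : LabZ (Nat.card F) M m n} (ht : IsLab θ M m n χ t) (ht' : POnly M p t.t) {a : ZMod M}
    (ha : SF (Nat.card F) M p t a) : Chain p 𝔐 (linH F θ M a) n B :=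
  exists_chain_aux hctx hpF h𝔐 _ hn hm hB hχ ht ht' rfl a ha

/-- a central element of order `p` -/
theorem exists_scl {E : Type u} [Field E] [Finite E] (hp : p.Prime) {z : Eˣ} (hz : ∃ a : ℕ, orderOf z = p ^ a) (hz1 : z ≠ 1)
    {k : ℕ} (hk : 0 < k) : ∃ c : GL (Fin k) E, orderOf c = p ∧ ∀ g : GL (Fin k) E, c * g = g * c := by
  obtain ⟨a, ha⟩ := hz
  have ha0 : a ≠ 0 := by
    rintro rfl
    rw [pow_zero, orderOf_eq_one_iff] at ha
    exact hz1 ha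
  have h1 : orderOf (z ^ p ^ (a - 1)) = p := by
    rw [orderOf_pow, ha, Nat.gcd_eq_right (pow_dvd_pow p (Nat.sub_le a 1)), Nat.pow_div (Nat.sub_le a 1) hp.pos,
      Nat.sub_sub_self (Nat.one_le_iff_ne_zero.2 ha0), pow_one]
  refine ⟨scl k (z ^ p ^ (a - 1)), ?_, fun g => ?_⟩
  · refine Eq.trans ?_ h1
    apply orderOf_injective (Units.map (Matrix.scalar (Fin k)).toMonoidHom : Eˣ →* GL (Fin k) E)
    intro x y hxy
    have h2 := congrArg (fun A : GL (Fin k) E => A.1 ⟨0, hk⟩ ⟨0, hk⟩) hxy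
    apply Units.ext
    simpa using h2
  · apply Units.ext
    change (Matrix.scalar (Fin k)) ((z ^ p ^ (a - 1) : Eˣ) : E) * g.1 = g.1 * (Matrix.scalar (Fin k)) _
    exact (Matrix.scalar_commute _ (fun r => Commute.all _ r) _)

/-- one step of the elementary abelian subgroup -/
theorem elab_step (h𝔐 : IsPModular p 𝔐) {n k l w : ℕ} {E : Type u} [Field E] [Finite E] [Algebra F E]
    (e : ((Fin k → E) × (Fin l → F)) ≃ₗ[F] (Fin n → F)) (hk : 0 < k) {z : Eˣ} (hz : ∃ a : ℕ, orderOf z = p ^ a)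
    (hz1 : z ≠ 1) (hgen : Algebra.adjoin F {(z : E)} = ⊤) (θ₀ : IrrCharacter (GL (Fin k) E))
    {b₂ : Set (IrrCharacter (GL (Fin l) F))} (hb₂ : IsPBlock 𝔐 b₂) {B : Set (IrrCharacter (GL (Fin n) F))}
    (hB : IsPBlock 𝔐 B)
    (hind : IsInducedBlock 𝔐 (Subgroup.centralizer ({jj e (scl k z, 1)} : Set (GL (Fin n) F)))
      (prodBlk (Subgroup.centralizer ({jj e (scl k z, 1)} : Set (GL (Fin n) F))) (jj e)
        (blockOf 𝔐 (θ₀ : GL (Fin k) E → ℂ)) b₂) B)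
    (h₂ : ∀ D₂ : Subgroup (GL (Fin l) F), IsDefectGroup p 𝔐 b₂ D₂ → ∃ A : Subgroup (GL (Fin l) F), A ≤ D₂ ∧
      (∀ x ∈ A, ∀ y ∈ A, x * y = y * x) ∧ (∀ x ∈ A, x ^ p = 1) ∧ Nat.card A = p ^ w)
    (D : Subgroup (GL (Fin n) F)) (hD : IsDefectGroup p 𝔐 B D) :
    ∃ A : Subgroup (GL (Fin n) F), A ≤ D ∧ (∀ x ∈ A, ∀ y ∈ A, x * y = y * x) ∧ (∀ x ∈ A, x ^ p = 1) ∧
      Nat.card A = p ^ (w + 1) := by
  have hp : p.Prime := h𝔐.1
  have : Fact p.Prime := ⟨hp⟩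
  have := isPrime_of_isPModular h𝔐
  have hHr := Cfsg.Agent.H901.Sl.centralizer_jj e z hz1 hgen
  have hinj := Cfsg.Agent.H901.Sl.jj_injective e
  obtain ⟨D₂, hD₂⟩ := Cfsg.Agent.H648.Dict.exists_isDefectGroup h𝔐 hb₂
  obtain ⟨A₂, hA₂, hcom, hexp, hcard⟩ := h₂ D₂ hD₂
  obtain ⟨c, hc, hcc⟩ := exists_scl hp hz hz1 hk
  have hZp : IsPGroup p (Subgroup.zpowers c) := by
    refine IsPGroup.of_card (n := 1) ?_
    rw [Nat.card_zpowers, hc, pow_one]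
  have hZc : Subgroup.zpowers c ≤ Subgroup.center (GL (Fin k) E) := by
    rw [Subgroup.zpowers_le]
    exact Subgroup.mem_center_iff.2 fun g => (hcc g).symm
  have hb₁ := isPBlock_blockOf (M := 𝔐) θ₀
  obtain ⟨D', hD', hmem⟩ := Cfsg.Agent.H76.GLB.exists_defect_prod h𝔐 hinj hHr hb₁ hb₂ (Subgroup.zpowers c) hZc hZp D₂ hD₂
  have hpb : IsPBlock 𝔐 (prodBlk (Subgroup.centralizer ({jj e (scl k z, 1)} : Set (GL (Fin n) F))) (jj e)
      (blockOf 𝔐 (θ₀ : GL (Fin k) E → ℂ)) b₂) := by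
    obtain ⟨χ₂, rfl⟩ := hb₂
    obtain ⟨ψ, hψ⟩ := Cfsg.Agent.H76.GLB.exists_prodChar hinj hHr θ₀ χ₂
    rw [Cfsg.Agent.H76.GLB.prodBlk_blockOf h𝔐 hinj hHr θ₀ χ₂ ψ hψ]
    exact isPBlock_blockOf ψ
  obtain ⟨E', hE', hle⟩ := Cfsg.Agent.S0917.result p 𝔐 h𝔐 _ _ hpb B hB hind D' hD'
  obtain ⟨x, hx⟩ := Cfsg.Agent.H648.HarrisKnorr.exists_conj_of_isDefectGroup h𝔐 hB hE' hD
  have hinj' : Function.Injective ((MulAut.conj x).toMonoidHom.comp (jj e)) :=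
    (MulAut.conj x).injective.comp hinj
  refine ⟨((Subgroup.zpowers c).prod A₂).map ((MulAut.conj x).toMonoidHom.comp (jj e)), ?_, ?_, ?_, ?_⟩
  · rw [← hx]
    rintro _ ⟨y, ⟨hy1, hy2⟩, rfl⟩
    exact ⟨_, hle (hmem y.1 hy1 y.2 (hA₂ hy2)), rfl⟩
  · rintro _ ⟨y, ⟨hy1, hy2⟩, rfl⟩ _ ⟨y', ⟨hy1', hy2'⟩, rfl⟩
    rw [← map_mul, ← map_mul]
    congr 1
    refine Prod.ext ?_ (hcom _ hy2 _ hy2')
    exact (Subgroup.mem_center_iff.1 (hZc hy1) _).symm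
  · rintro _ ⟨y, ⟨hy1, hy2⟩, rfl⟩
    rw [← map_pow]
    have h1 : y ^ p = 1 := by
      refine Prod.ext ?_ (hexp _ hy2)
      rw [Prod.pow_fst, Prod.fst_one, ← hc]
      exact orderOf_dvd_iff_pow_eq_one.1 (orderOf_dvd_of_mem_zpowers hy1)
    rw [h1, map_one]
  · rw [Nat.card_congr (Subgroup.equivMapOfInjective _ _ hinj').symm.toEquiv, Nat.card_congr (Subgroup.prodEquiv _ _).toEquiv,
      Nat.card_prod, Nat.card_zpowers, hc, hcard, pow_succ, mul_comm]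

/-- **GB6 (D4)**: the defect group contains an elementary abelian subgroup of rank the total weight. -/
theorem exists_elab_aux (hctx : Ctx F θ N M) (hpF : p ≠ ringChar F) (h𝔐 : IsPModular p 𝔐) (w : ℕ) :
    ∀ {m n : ℕ}, n ≤ N → n ≤ m → ∀ {B : Set (IrrCharacter (GL (Fin n) F))}, IsPBlock 𝔐 B →
      ∀ {χ : IrrCharacter (GL (Fin n) F)}, χ ∈ B → ∀ {t : LabZ (Nat.card F) M m n}, IsLab θ M m n χ t →
      POnly M p t.t → totW (Nat.card F) M p t.t = w → ∀ D : Subgroup (GL (Fin n) F), IsDefectGroup p 𝔐 B D →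
      ∃ A : Subgroup (GL (Fin n) F), A ≤ D ∧ (∀ x ∈ A, ∀ y ∈ A, x * y = y * x) ∧ (∀ x ∈ A, x ^ p = 1) ∧
        Nat.card A = p ^ w := by
  induction w with
  | zero =>
    intro m n hn hm B hB χ hχ t ht ht' h0 D hD
    refine ⟨⊥, bot_le, ?_, ?_, ?_⟩
    · intro x hx y hy
      rw [Subgroup.mem_bot.1 hx, Subgroup.mem_bot.1 hy]
    · intro x hx
      rw [Subgroup.mem_bot.1 hx, one_pow]
    · rw [Subgroup.card_bot, pow_zero]
  | succ w ih =>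
    intro m n hn hm B hB χ hχ t ht ht' h0 D hD
    obtain ⟨l, k, E, hE1, hE2, hE3, e, z, θ₀, b₂, χ₂, t₂, hln, hk, hpk, hz, hz1, hgen, hcusp, hfix, hb₂, hind, hχ₂, ht₂,
      ht₂p, hw, hSF⟩ := exists_red hctx hpF h𝔐 hn hm hB hχ ht ht' (h0 ▸ Nat.succ_pos w)
    rw [h0] at hw
    exact elab_step h𝔐 e hk hz hz1 hgen θ₀ hb₂ hB hind
      (ih (hln.trans hn) (hln.trans hm) hb₂ hχ₂ ht₂ ht₂p (Nat.succ_injective hw)) D hD

/-- **GB6 (D4)**: the defect group contains an elementary abelian subgroup of rank the total weight. -/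
theorem exists_elab (hctx : Ctx F θ N M) (hpF : p ≠ ringChar F) (h𝔐 : IsPModular p 𝔐)
    {m n : ℕ} (hn : n ≤ N) (hm : n ≤ m) {B : Set (IrrCharacter (GL (Fin n) F))} (hB : IsPBlock 𝔐 B)
    {χ : IrrCharacter (GL (Fin n) F)} (hχ : χ ∈ B) {t : LabZ (Nat.card F) M m n} (ht : IsLab θ M m n χ t)
    (ht' : POnly M p t.t) (D : Subgroup (GL (Fin n) F)) (hD : IsDefectGroup p 𝔐 B D) :
    ∃ A : Subgroup (GL (Fin n) F), A ≤ D ∧ (∀ x ∈ A, ∀ y ∈ A, x * y = y * x) ∧ (∀ x ∈ A, x ^ p = 1) ∧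
      Nat.card A = p ^ totW (Nat.card F) M p t.t :=
  exists_elab_aux hctx hpF h𝔐 _ hn hm hB hχ ht ht' rfl D hD

end Cfsg.Agent.H623.GLn
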