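import Cfsg.Agent.H623.GLn.Sec
import Cfsg.Agent.H614.GLn.RSFam
import Cfsg.Agent.H76.GLB.Lower

/-!
# S4536, (D4): the pairing with a cuspidal character is a derivative

* `tensor_der` : contraction of the coproduct with an `ε`-derivation is a derivation;
* `section_der` : the number of `section_pairing` for `y₁ = rv (Q^f) k δ` is a nonzero constant times
  `form (τ (∂_{(f k, δ)} x)) y₂`.
-/

set_option autoImplicit false

open Cfsg MvPolynomial
open scoped ComplexConjugate TensorProduct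

namespace Cfsg.Agent.H623.GLn

open Cfsg.Agent.H614.GLn Cfsg.Agent.H577.GLB.Std
open Cfsg.Agent.H577.GLB.Real (coP PhiF PGen frm)
open Cfsg.Agent.H614.GLn.RSt (form_eq form_X_mul form_one_left Nf Dv Dv_apply tauP_rv torZ_mul torZ_add canon_eq_iff sameZ_canon)

variable {Q : ℤ} {M p : ℕ}

/-! ### the form is hermitian -/

theorem form_symm (P P' : RS M) : conj (form Q M P P') = form Q M P' P := by
  classical
  rw [form_eq Q M (Finset.subset_union_left (s₁ := P.support) (s₂ := P'.support)),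
    form_eq Q M (Finset.subset_union_right (s₁ := P.support) (s₂ := P'.support)), map_sum]
  refine Finset.sum_congr rfl fun s _ => ?_
  have h : conj (Nf Q M s) = Nf Q M s := by
    rw [Nf, Finsupp.prod, map_prod]
    refine Finset.prod_congr rfl fun v _ => ?_
    rw [map_mul, map_pow, map_natCast, map_natCast]
  rw [map_mul, map_mul, h, Complex.conj_conj]
  ring

theorem form_X_right [NeZero M] (v : Var M) (P : RS M) :
    form Q M P (X v) = (Cfsg.Agent.H577.GLB.Std.zz Q M v : ℂ) * constantCoeff (pderiv v P) := by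
  rw [← form_symm, ← mul_one (X v), form_X_mul, form_one_left, Complex.conj_conj, Dv_apply, smul_eq_C_mul, map_mul,
    constantCoeff_C]

/-! ### contraction of the coproduct -/

/-- the contraction of the coproduct with an `ε`-derivation `lam` -/
theorem tensor_der {lam : RS M →ₗ[ℂ] ℂ} (h1 : lam 1 = 0)
    (hmul : ∀ (a : RS M) (v : Var M), lam (a * X v) = constantCoeff a * lam (X v)) (μ : RS M →ₗ[ℂ] ℂ) (x : RS M) :
    LinearMap.mul' ℂ ℂ (TensorProduct.map lam μ (coP M x)) =
      μ (mkDerivation ℂ (fun v : Var M => (C (lam (X v)) : RS M)) x) := by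
  -- the counit
  have hcounit : ∀ (μ : RS M →ₗ[ℂ] ℂ) (x : RS M), LinearMap.mul' ℂ ℂ (TensorProduct.map
      (lcoeff ℂ (0 : Var M →₀ ℕ)) μ (coP M x)) = μ x := by
    intro μ x
    induction x using MvPolynomial.induction_on generalizing μ with
    | C a =>
      have h2 : coP M (C a) = a • ((1 : RS M) ⊗ₜ[ℂ] (1 : RS M)) := by
        have h3 := AlgHom.commutes (coP M) a
        rw [Algebra.algebraMap_eq_smul_one (A := RS M ⊗[ℂ] RS M)] at h3
        exact h3
      rw [h2, map_smul, map_smul, TensorProduct.map_tmul, LinearMap.mul'_apply, lcoeff_apply, coeff_zero_one, one_mul,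
        smul_eq_mul, ← smul_eq_mul, ← map_smul, smul_eq_C_mul, mul_one]
    | add x y hx hy => rw [map_add, map_add, map_add, map_add, hx, hy]
    | mul_X x v hx =>
      rw [map_mul]
      have h3 : ∀ w : RS M ⊗[ℂ] RS M, LinearMap.mul' ℂ ℂ (TensorProduct.map (lcoeff ℂ (0 : Var M →₀ ℕ)) μ
          (w * coP M (X v))) = LinearMap.mul' ℂ ℂ (TensorProduct.map (lcoeff ℂ (0 : Var M →₀ ℕ))
            (μ ∘ₗ LinearMap.mulRight ℂ (X v)) w) := by
        intro w
        rw [coP, aeval_X, mul_add, map_add, map_add]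
        induction w with
        | zero => simp
        | add w w' hw hw' =>
          rw [add_mul, add_mul, map_add, map_add, map_add, map_add, map_add, map_add, ← hw, ← hw']
          ring
        | tmul a b =>
          rw [Algebra.TensorProduct.tmul_mul_tmul, Algebra.TensorProduct.tmul_mul_tmul, TensorProduct.map_tmul,
            TensorProduct.map_tmul, TensorProduct.map_tmul, LinearMap.mul'_apply, LinearMap.mul'_apply,
            LinearMap.mul'_apply, lcoeff_apply, lcoeff_apply, mul_one, mul_one, LinearMap.comp_apply,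
            LinearMap.mulRight_apply]
          have h4 : coeff 0 (a * X v) = 0 := by
            rw [← constantCoeff_eq, map_mul, constantCoeff_X, mul_zero]
          rw [h4, zero_mul, zero_add]
          rfl
      rw [h3, hx, LinearMap.comp_apply, LinearMap.mulRight_apply]
  induction x using MvPolynomial.induction_on generalizing μ with
  | C a =>
    have h2 : coP M (C a) = a • ((1 : RS M) ⊗ₜ[ℂ] (1 : RS M)) := by
      have h3 := AlgHom.commutes (coP M) a
      rw [Algebra.algebraMap_eq_smul_one (A := RS M ⊗[ℂ] RS M)] at h3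
      exact h3
    rw [h2, map_smul, map_smul, TensorProduct.map_tmul, LinearMap.mul'_apply, h1, zero_mul, smul_zero, derivation_C,
      map_zero]
  | add x y hx hy => rw [map_add, map_add, map_add, map_add, map_add, hx, hy]
  | mul_X x v hx =>
    have h3 : ∀ w : RS M ⊗[ℂ] RS M, LinearMap.mul' ℂ ℂ (TensorProduct.map lam μ (w * coP M (X v))) =
        lam (X v) * LinearMap.mul' ℂ ℂ (TensorProduct.map (lcoeff ℂ (0 : Var M →₀ ℕ)) μ w) +
        LinearMap.mul' ℂ ℂ (TensorProduct.map lam (μ ∘ₗ LinearMap.mulRight ℂ (X v)) w) := by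
      intro w
      rw [coP, aeval_X, mul_add, map_add, map_add]
      induction w with
      | zero => simp
      | add w w' hw hw' =>
        rw [add_mul, add_mul, map_add, map_add, map_add, map_add, map_add, map_add, map_add, map_add]
        linear_combination hw + hw'
      | tmul a b =>
        rw [Algebra.TensorProduct.tmul_mul_tmul, Algebra.TensorProduct.tmul_mul_tmul, TensorProduct.map_tmul,
          TensorProduct.map_tmul, TensorProduct.map_tmul, TensorProduct.map_tmul, LinearMap.mul'_apply,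
          LinearMap.mul'_apply, LinearMap.mul'_apply, LinearMap.mul'_apply, lcoeff_apply, mul_one, mul_one,
          LinearMap.comp_apply, LinearMap.mulRight_apply, hmul, constantCoeff_eq]
        ring
    rw [map_mul, h3, hcounit, hx, LinearMap.comp_apply, LinearMap.mulRight_apply, Derivation.leibniz,
      mkDerivation_X, map_add, smul_eq_mul, smul_eq_mul, mul_comm x, ← smul_eq_C_mul, map_smul, smul_eq_mul,
      mul_comm (X v)]

/-! ### the functional given by a cuspidal variable -/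

section lam

variable [NeZero M]

theorem torZ_mul' {Q' : ℤ} {k : ℕ} {c : ZMod M} (h : TorZ Q' M k c) (a : ZMod M) : TorZ Q' M k (a * c) := by
  rw [TorZ] at h ⊢
  rw [mul_left_comm, h, mul_zero]

theorem cc_rv {Q' : ℤ} {k : ℕ} {δ : ZMod M} (l : ℕ) (c : ZMod M) :
    constantCoeff (pderiv (k, canon Q' M δ) (rv Q' M l c)) =
      ind ((0 < l ∧ TorZ Q' M l c) ∧ l = k ∧ canon Q' M c = canon Q' M δ) := by
  classical
  rw [rv]
  by_cases h : 0 < l ∧ TorZ Q' M l c
  · rw [if_pos h, pderiv_X]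
    by_cases h2 : (l, canon Q' M c) = ((k, canon Q' M δ) : Var M)
    · rw [h2, Pi.single_eq_same, map_one, ind_pos ⟨h, congrArg Prod.fst h2, congrArg Prod.snd h2⟩]
    · rw [Pi.single_eq_of_ne h2, map_zero, ind_neg]
      rintro ⟨-, h3, h4⟩
      exact h2 (Prod.ext h3 h4)
  · rw [if_neg h, map_zero, map_zero, ind_neg fun h2 => h h2.1]

open Classical in
theorem cc_tauP {Q' : ℤ} (hQ' : IsUnit (Q' : ZMod M)) {k : ℕ} {δ : ZMod M} (l : ℕ) (c : ZMod M) :
    constantCoeff (pderiv (k, canon Q' M δ) (tauP Q' M p (rv Q' M l c))) =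
      ind (0 < l ∧ TorZ Q' M l c) * (((Eta Q' M p l).card : ℂ)⁻¹ *
        (((Eta Q' M p l).filter fun η => l = k ∧ canon Q' M (c + η) = canon Q' M δ).card : ℂ)) := by
  by_cases h : 0 < l ∧ TorZ Q' M l c
  · rw [ind_pos h, one_mul, tauP_rv hQ' h.1 h.2, Derivation.map_smul, map_sum, smul_eq_C_mul, map_mul, constantCoeff_C,
      map_sum, Finset.card_filter, Nat.cast_sum]
    congr 1
    refine Finset.sum_congr rfl fun η hη => ?_
    have h1 : TorZ Q' M l (c + η) := torZ_add l h.2 (RSt.mem_Eta.1 hη).1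
    rw [cc_rv]
    by_cases h2 : l = k ∧ canon Q' M (c + η) = canon Q' M δ
    · rw [ind_pos ⟨⟨h.1, h1⟩, h2⟩, if_pos h2, Nat.cast_one]
    · rw [ind_neg fun h3 => h2 h3.2, if_neg h2, Nat.cast_zero]
  · rw [ind_neg h, zero_mul, rv, if_neg h, map_zero, map_zero, map_zero]

theorem constantCoeff_rv (k : ℕ) (c : ZMod M) : constantCoeff (rv Q M k c) = 0 := by
  rw [rv]
  split_ifs
  · exact constantCoeff_X _ _
  · exact map_zero _

theorem constantCoeff_tauP (a : RS M) : constantCoeff (tauP Q M p a) = constantCoeff a := by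
  have h : (constantCoeff (R := ℂ) (σ := Var M)).comp (tauP Q M p).toRingHom = constantCoeff := by
    refine MvPolynomial.ringHom_ext ?_ ?_
    · intro r
      change constantCoeff (tauP Q M p (C r)) = _
      rw [algHom_C]
      rfl
    · intro v
      change constantCoeff (tauP Q M p (X v)) = _
      rw [tauP, aeval_X, smul_eq_C_mul, map_mul, map_sum, Finset.sum_eq_zero fun η _ => constantCoeff_rv _ _, mul_zero,
        constantCoeff_X]
  exact RingHom.congr_fun h a

theorem constantCoeff_PhiF (f : ℕ) (a : RS M) : constantCoeff (PhiF Q M f a) = constantCoeff a := by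
  have h : (constantCoeff (R := ℂ) (σ := Var M)).comp (PhiF Q M f).toRingHom = constantCoeff := by
    refine MvPolynomial.ringHom_ext ?_ ?_
    · intro r
      change constantCoeff (PhiF Q M f (C r)) = _
      rw [algHom_C]
      rfl
    · intro v
      change constantCoeff (PhiF Q M f (X v)) = _
      rw [PhiF, aeval_X, constantCoeff_X]
      split_ifs
      · rw [map_sum, Finset.sum_eq_zero fun j _ => constantCoeff_rv _ _]
      · exact map_zero _
  exact RingHom.congr_fun h a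

theorem zz_pos' {v : Var M} (hv : 0 < v.1) : 0 < Cfsg.Agent.H577.GLB.Std.zz Q M v := by
  classical
  rw [Cfsg.Agent.H577.GLB.Std.zz, Finset.card_pos]
  exact ⟨0, by simp [hv]⟩

theorem PGen_vars (hQ : IsUnit (Q : ZMod M)) {x : RS M} (hx : x ∈ PGen Q M p) {v : Var M} (hv : v ∈ x.vars) :
    GenVar Q M v ∧ PReg M p v.2 := by
  have h1 : PGen Q M p ≤ supported ℂ {v : Var M | GenVar Q M v ∧ PReg M p v.2} := by
    refine Algebra.adjoin_le ?_
    rintro _ ⟨k, c, hc, rfl⟩
    rw [rv]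
    split_ifs with h
    · refine X_mem_supported.2 ⟨⟨h.1, torZ_canon h.2, canon_canon Q c⟩, ?_⟩
      exact Cfsg.Agent.H76.GLB.pReg_of_same (sameZ_canon c) hc
    · exact Subalgebra.zero_mem _
  have h2 := h1 hx
  rw [mem_supported] at h2
  exact h2 hv

/-- a difference of `p'`-labels of `p`-power order is zero -/
theorem eq_zero_of_pReg (hp : p.Prime) {a b η : ZMod M} (ha : PReg M p a) (hb : PReg M p b) (h : b + η = a)
    (hη : ∃ j : ℕ, (p : ZMod M) ^ j * η = 0) : η = 0 := by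
  obtain ⟨j, hj⟩ := hη
  have h1 : addOrderOf η ∣ p ^ j := by
    apply addOrderOf_dvd_of_nsmul_eq_zero
    rw [nsmul_eq_mul]
    push_cast
    exact hj
  have h2 : addOrderOf η ∣ addOrderOf a * addOrderOf b := by
    apply addOrderOf_dvd_of_nsmul_eq_zero
    have h3 : η = a - b := by rw [← h]; ring
    rw [h3, smul_sub, mul_nsmul, mul_nsmul', addOrderOf_nsmul_eq_zero, addOrderOf_nsmul_eq_zero, smul_zero, smul_zero,
      sub_zero]
  have h3 : Nat.Coprime (addOrderOf a * addOrderOf b) (p ^ j) :=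
    Nat.Coprime.pow_right j (Nat.Coprime.mul_left ha hb)
  have h4 : addOrderOf η = 1 := Nat.eq_one_of_dvd_coprimes h3 h2 h1
  exact AddMonoid.addOrderOf_eq_one_iff.1 h4

/-- the functional -/
noncomputable def lamF (Q : ℤ) (M p f k : ℕ) [NeZero M] (δ : ZMod M) : RS M →ₗ[ℂ] ℂ :=
  frm (Q ^ f) M (rv (Q ^ f) M k δ) ∘ₗ (tauP (Q ^ f) M p).toLinearMap ∘ₗ (PhiF Q M f).toLinearMap

theorem lamF_apply {f k : ℕ} {δ : ZMod M} (hk : 0 < k) (hT : TorZ (Q ^ f) M k δ) (a : RS M) :
    lamF Q M p f k δ a = (Cfsg.Agent.H577.GLB.Std.zz (Q ^ f) M (k, canon (Q ^ f) M δ) : ℂ) *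
      constantCoeff (pderiv (k, canon (Q ^ f) M δ) (tauP (Q ^ f) M p (PhiF Q M f a))) := by
  change form (Q ^ f) M (tauP (Q ^ f) M p (PhiF Q M f a)) (rv (Q ^ f) M k δ) = _
  rw [rv, if_pos ⟨hk, hT⟩, form_X_right]

open Classical in
theorem lamF_X {f k : ℕ} {δ : ZMod M} (hQ : IsUnit (Q : ZMod M)) (hk : 0 < k) (hT : TorZ (Q ^ f) M k δ) (v : Var M) :
    lamF Q M p f k δ (X v) = (Cfsg.Agent.H577.GLB.Std.zz (Q ^ f) M (k, canon (Q ^ f) M δ) : ℂ) *
      (ind (f ∣ v.1) * ∑ j ∈ Finset.range f,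
        ind (0 < v.1 / f ∧ TorZ (Q ^ f) M (v.1 / f) ((Q : ZMod M) ^ j * v.2)) *
        (((Eta (Q ^ f) M p (v.1 / f)).card : ℂ)⁻¹ * (((Eta (Q ^ f) M p (v.1 / f)).filter fun η =>
          v.1 / f = k ∧ canon (Q ^ f) M ((Q : ZMod M) ^ j * v.2 + η) = canon (Q ^ f) M δ).card : ℂ))) := by
  have hQ' : IsUnit ((Q ^ f : ℤ) : ZMod M) := by
    rw [Int.cast_pow]
    exact hQ.pow f
  rw [lamF_apply hk hT, PhiF, aeval_X]
  congr 1
  by_cases h : f ∣ v.1
  · rw [if_pos h, ind_pos h, one_mul, map_sum, map_sum, map_sum]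
    exact Finset.sum_congr rfl fun j _ => cc_tauP hQ' _ _
  · rw [if_neg h, ind_neg h, zero_mul, map_zero, map_zero, map_zero]

theorem lamF_eq_zero (hp : p.Prime) {f k : ℕ} {δ : ZMod M} (hQ : IsUnit (Q : ZMod M)) (hf : 0 < f) (hk : 0 < k)
    (hT : TorZ (Q ^ f) M k δ) (hδ : PReg M p δ) {v : Var M} (hv : GenVar Q M v) (hvp : PReg M p v.2)
    (hne : v ≠ (f * k, canon Q M δ)) : lamF Q M p f k δ (X v) = 0 := by
  classical
  have hQ' : IsUnit ((Q ^ f : ℤ) : ZMod M) := by
    rw [Int.cast_pow]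
    exact hQ.pow f
  rw [lamF_X hQ hk hT]
  by_cases h : f ∣ v.1
  · rw [Finset.sum_eq_zero, mul_zero, mul_zero]
    intro j _
    have hemp : ((Eta (Q ^ f) M p (v.1 / f)).filter fun η =>
        v.1 / f = k ∧ canon (Q ^ f) M ((Q : ZMod M) ^ j * v.2 + η) = canon (Q ^ f) M δ) = ∅ := ?_
    · rw [hemp, Finset.card_empty, Nat.cast_zero, mul_zero, mul_zero]
    rw [Finset.filter_eq_empty_iff]
    rintro η hη ⟨h1, h2⟩
    apply hne
    have h3 : v.1 = f * k := by rw [← h1, Nat.mul_div_cancel' h]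
    refine Prod.ext h3 ?_
    obtain ⟨i, hi⟩ := (canon_eq_iff hQ').1 h2.symm
    have h4 : η = 0 := by
      refine eq_zero_of_pReg hp (Cfsg.Agent.H76.GLB.pReg_of_same ⟨i, rfl⟩ hδ)
        (Cfsg.Agent.H76.GLB.pReg_of_same (Q := Q) ⟨j, rfl⟩ hvp) hi (RSt.mem_Eta.1 hη).2
    rw [h4, add_zero] at hi
    change v.2 = canon Q M δ
    rw [← hv.2.2]
    symm
    refine (canon_eq_iff hQ).2 ?_
    have h5 : SameZ Q M v.2 δ := by
      refine RSt.SameZ.symm' hQ ?_
      have h6 : SameZ Q M δ ((Q : ZMod M) ^ j * v.2) := ⟨f * i, by rw [hi, Int.cast_pow, ← pow_mul]⟩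
      exact RSt.SameZ.trans' h6 (RSt.SameZ.symm' hQ ⟨j, rfl⟩)
    exact RSt.SameZ.symm' hQ h5
  · rw [ind_neg h, zero_mul, mul_zero]

theorem lamF_ne_zero {f k : ℕ} {δ : ZMod M} (hQ : IsUnit (Q : ZMod M)) (hf : 0 < f) (hk : 0 < k)
    (hT : TorZ (Q ^ f) M k δ) : lamF Q M p f k δ (X (f * k, canon Q M δ)) ≠ 0 := by
  classical
  have hQ' : IsUnit ((Q ^ f : ℤ) : ZMod M) := by
    rw [Int.cast_pow]
    exact hQ.pow f
  rw [lamF_X hQ hk hT]
  have h1 : f * k / f = k := Nat.mul_div_cancel_left k hf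
  simp only [h1]
  rw [ind_pos (dvd_mul_right f k), one_mul]
  refine mul_ne_zero (Nat.cast_ne_zero.2 (zz_pos' hk).ne') ?_
  have h2 : ∀ j ∈ Finset.range f, ind (0 < k ∧ TorZ (Q ^ f) M k ((Q : ZMod M) ^ j * canon Q M δ)) *
        (((Eta (Q ^ f) M p k).card : ℂ)⁻¹ * (((Eta (Q ^ f) M p k).filter fun η =>
          True ∧ canon (Q ^ f) M ((Q : ZMod M) ^ j * canon Q M δ + η) = canon (Q ^ f) M δ).card : ℂ)) =
      ((Eta (Q ^ f) M p k).card : ℂ)⁻¹ * (((Eta (Q ^ f) M p k).filter fun η =>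
          True ∧ canon (Q ^ f) M ((Q : ZMod M) ^ j * canon Q M δ + η) = canon (Q ^ f) M δ).card : ℂ) := by
    intro j _
    rw [ind_pos, one_mul]
    refine ⟨hk, torZ_mul' ?_ _⟩
    obtain ⟨i, hi⟩ := sameZ_canon (Q := Q) δ
    rw [hi]
    exact torZ_mul' hT _
  rw [Finset.sum_congr rfl h2, ← Finset.mul_sum, ← Nat.cast_sum]
  refine mul_ne_zero (inv_ne_zero (Nat.cast_ne_zero.2 (RSt.Eta_card_pos k).ne')) (Nat.cast_ne_zero.2 ?_)
  obtain ⟨i, hi⟩ := RSt.SameZ.symm' hQ (sameZ_canon (Q := Q) δ)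
  have h3 : i % f ∈ Finset.range f := Finset.mem_range.2 (Nat.mod_lt i hf)
  refine (Finset.sum_pos' (fun _ _ => Nat.zero_le _) ⟨i % f, h3, ?_⟩).ne'
  refine Finset.card_pos.2 ⟨0, ?_⟩
  rw [Finset.mem_filter]
  refine ⟨RSt.zero_mem_Eta k, trivial, ?_⟩
  rw [add_zero]
  refine (canon_eq_iff hQ').2 ⟨i / f, ?_⟩
  rw [Int.cast_pow, ← pow_mul, ← mul_assoc, ← pow_add, Nat.div_add_mod, ← hi]

/-- **the pairing with a cuspidal variable is a derivative** -/
theorem section_der (hp : p.Prime) {f k : ℕ} {δ : ZMod M} (hQ : IsUnit (Q : ZMod M)) (hf : 0 < f) (hk : 0 < k)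
    (hT : TorZ (Q ^ f) M k δ) (hδ : PReg M p δ) {x : RS M} (hx : x ∈ PGen Q M p) (μ : RS M →ₗ[ℂ] ℂ) :
    LinearMap.mul' ℂ ℂ (TensorProduct.map (lamF Q M p f k δ) μ (coP M x)) =
      lamF Q M p f k δ (X (f * k, canon Q M δ)) * μ (pderiv (f * k, canon Q M δ) x) := by
  classical
  have h1 : lamF Q M p f k δ 1 = 0 := by
    rw [lamF_apply hk hT, map_one, map_one, pderiv_one, map_zero, mul_zero]
  have h2 : ∀ (a : RS M) (v : Var M), lamF Q M p f k δ (a * X v) = constantCoeff a * lamF Q M p f k δ (X v) := by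
    intro a v
    rw [lamF_apply hk hT, lamF_apply hk hT, map_mul, map_mul, Derivation.leibniz, map_add, smul_eq_mul, smul_eq_mul,
      map_mul, map_mul, constantCoeff_tauP, constantCoeff_tauP, constantCoeff_PhiF, constantCoeff_PhiF,
      constantCoeff_X, zero_mul, add_zero]
    ring
  rw [tensor_der h1 h2]
  have h3 : mkDerivation ℂ (fun v : Var M => (C (lamF Q M p f k δ (X v)) : RS M)) x =
      (lamF Q M p f k δ (X (f * k, canon Q M δ)) • pderiv (R := ℂ) (f * k, canon Q M δ)) x := by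
    refine derivation_eq_of_forall_mem_vars fun v hv => ?_
    obtain ⟨hv1, hv2⟩ := PGen_vars hQ hx hv
    rw [mkDerivation_X, Derivation.smul_apply, pderiv_X]
    by_cases h : v = (f * k, canon Q M δ)
    · rw [h, Pi.single_eq_same, smul_eq_C_mul, mul_one]
    · rw [lamF_eq_zero hp hQ hf hk hT hδ hv1 hv2 h, map_zero, Pi.single_eq_of_ne h, smul_zero]
  rw [h3, Derivation.smul_apply, map_smul, smul_eq_mul]

end lam

end Cfsg.Agent.H623.GLn
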