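import Cfsg.Agent.H623.GLn.Mackey
import Cfsg.Agent.H941.GLn.Ring
import Cfsg.Agent.H577.GLB.Std
import Cfsg.Agent.H614.GLn.Labels
import Cfsg.Agent.H139.Cusp.Main
import Mathlib.Algebra.MvPolynomial.Supported

/-!
# The Hall algebra of `GL_n(F)`: Wick's formula (helper623, S4536 task G8)
-/

set_option autoImplicit false

open scoped ComplexConjugate

namespace Cfsg.Agent.H623.GLn

open Cfsg.Agent.H614.GLn Cfsg.Agent.H941.GLn

universe u w

variable {F : Type u} [Field F]

/-! ### homogeneous families -/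

theorem hg_zero (k : ℕ) : Hg (0 : Fam F) k := fun _ _ _ _ _ _ => rfl

theorem Hg.add {f g : Fam F} {k : ℕ} (hf : Hg f k) (hg : Hg g k) : Hg (f + g) k := by
  intro V _ _ _ T h
  rw [Fam.add_fn, hf V T h, hg V T h, add_zero]

theorem Hg.smul {f : Fam F} {k : ℕ} (hf : Hg f k) (c : ℂ) : Hg (c • f) k := by
  intro V _ _ _ T h
  rw [Fam.smul_fn, hf V T h, mul_zero]

theorem Hg.sum {ι : Type*} {s : Finset ι} {f : ι → Fam F} {k : ℕ} (hf : ∀ i ∈ s, Hg (f i) k) : Hg (∑ i ∈ s, f i) k := by
  intro V _ _ _ T h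
  rw [sum_fn]
  exact Finset.sum_eq_zero fun i hi => hf i hi V T h

theorem hg_one : Hg (1 : Fam F) 0 := by
  intro V _ _ _ T h
  have : Module.Finite F V := Module.Finite.of_finite
  refine if_neg fun hs => h ?_
  have : Subsingleton V := hs
  exact Module.finrank_zero_of_subsingleton

theorem Hg.mul {f g : Fam F} {a b : ℕ} (hf : Hg f a) (hg : Hg g b) : Hg (f * g) (a + b) := by
  intro V _ _ _ T h
  have := Fintype.ofFinite (Submodule F V)
  have : Module.Finite F V := Module.Finite.of_finite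
  rw [Fam.mul_fn']
  refine Finset.sum_eq_zero fun W _ => ?_
  by_cases hW : W ≤ W.comap T
  · have := finite_quot' W
    rw [Fam.term_of hW]
    by_cases h1 : Module.finrank F (V ⧸ W) = a
    · have h2 : Module.finrank F W ≠ b := by
        intro h2
        have h3 := W.finrank_quotient_add_finrank
        omega
      rw [hg W _ h2, mul_zero]
    · rw [hf _ _ h1, zero_mul]
  · exact Fam.term_of_not hW

/-! ### sesquilinearity -/

section sesqui

variable (V : Type u) [AddCommGroup V] [Module F V] [Finite V]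

theorem ipV_add_left (f f' g : Fam F) : ipV V (f + f') g = ipV V f g + ipV V f' g := by
  have := finiteUnits (F := F) V
  rw [ipV, ipV, ipV, ← avg_add]
  refine avg_congr fun T => ?_
  rw [Fam.add_fn]
  ring

theorem ipV_smul_left (c : ℂ) (f g : Fam F) : ipV V (c • f) g = c * ipV V f g := by
  have := finiteUnits (F := F) V
  rw [ipV, ipV, ← avg_mul_left]
  refine avg_congr fun T => ?_
  rw [Fam.smul_fn]
  ring

theorem ipV_zero_left (g : Fam F) : ipV V (0 : Fam F) g = 0 := by
  rw [ipV, ← avg_zero ((V →ₗ[F] V)ˣ)]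
  refine avg_congr fun T => ?_
  rw [Fam.zero_fn, zero_mul]

theorem ipV_sum_left {ι : Type*} (s : Finset ι) (f : ι → Fam F) (g : Fam F) :
    ipV V (∑ i ∈ s, f i) g = ∑ i ∈ s, ipV V (f i) g := by
  classical
  induction s using Finset.induction_on with
  | empty => rw [Finset.sum_empty, Finset.sum_empty, ipV_zero_left]
  | insert a s ha ih => rw [Finset.sum_insert ha, Finset.sum_insert ha, ipV_add_left, ih]

theorem ipV_add_right (f g g' : Fam F) : ipV V f (g + g') = ipV V f g + ipV V f g' := by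
  rw [← ipV_conj_symm, ipV_add_left, map_add, ipV_conj_symm, ipV_conj_symm]

theorem ipV_smul_right (c : ℂ) (f g : Fam F) : ipV V f (c • g) = conj c * ipV V f g := by
  rw [← ipV_conj_symm, ipV_smul_left, map_mul, ipV_conj_symm]

theorem ipV_sum_right {ι : Type*} (s : Finset ι) (f : Fam F) (g : ι → Fam F) :
    ipV V f (∑ i ∈ s, g i) = ∑ i ∈ s, ipV V f (g i) := by
  rw [← ipV_conj_symm, ipV_sum_left, map_sum]
  exact Finset.sum_congr rfl fun i _ => ipV_conj_symm V _ _

end sesqui

/-! ### Wick's formula -/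

section wick

variable {ι : Type*} (P : ι → Fam F)

/-- the monomial of a multiset -/
noncomputable def pr (s : Multiset ι) : Fam F := (s.map P).prod

theorem pr_zero : pr P 0 = 1 := by rw [pr, Multiset.map_zero, Multiset.prod_zero]

theorem pr_cons (i : ι) (s : Multiset ι) : pr P (i ::ₘ s) = P i * pr P s := by
  rw [pr, Multiset.map_cons, Multiset.prod_cons, pr]

theorem hg_pr {d : ι → ℕ} {s : Multiset ι} (h : ∀ i ∈ s, Hg (P i) (d i)) : Hg (pr P s) (s.map d).sum := by
  induction s using Multiset.induction_on with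
  | empty => rw [pr_zero, Multiset.map_zero, Multiset.sum_zero]; exact hg_one
  | cons i s ih =>
    rw [pr_cons, Multiset.map_cons, Multiset.sum_cons]
    exact (h i (Multiset.mem_cons_self i s)).mul (ih fun j hj => h j (Multiset.mem_cons_of_mem hj))

open Classical in
/-- the norm of a monomial -/
noncomputable def nrm (z : ι → ℕ) (s : Multiset ι) : ℂ :=
  ∏ i ∈ s.toFinset, ((s.count i).factorial : ℂ) * (z i : ℂ) ^ s.count i

open Classical in
theorem nrm_eq (z : ι → ℕ) (s : Multiset ι) {U : Finset ι} (hU : s.toFinset ⊆ U) :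
    nrm z s = ∏ i ∈ U, ((s.count i).factorial : ℂ) * (z i : ℂ) ^ s.count i := by
  refine Finset.prod_subset hU fun i _ hi => ?_
  rw [Multiset.mem_toFinset] at hi
  rw [Multiset.count_eq_zero_of_notMem hi]
  simp

open Classical in
theorem nrm_cons (z : ι → ℕ) (i : ι) (s : Multiset ι) :
    nrm z (i ::ₘ s) = ((s.count i + 1 : ℕ) : ℂ) * (z i : ℂ) * nrm z s := by
  have h1 : (i ::ₘ s).toFinset ⊆ insert i s.toFinset := by rw [Multiset.toFinset_cons]
  have h2 : s.toFinset ⊆ insert i s.toFinset := Finset.subset_insert _ _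
  rw [nrm_eq z _ h1, nrm_eq z _ h2, ← Finset.mul_prod_erase _ _ (Finset.mem_insert_self i s.toFinset),
    ← Finset.mul_prod_erase (insert i s.toFinset) (fun j => ((s.count j).factorial : ℂ) * (z j : ℂ) ^ s.count j)
      (Finset.mem_insert_self i s.toFinset)]
  have h3 : ∏ x ∈ (insert i s.toFinset).erase i, (((i ::ₘ s).count x).factorial : ℂ) * (z x : ℂ) ^ (i ::ₘ s).count x =
      ∏ x ∈ (insert i s.toFinset).erase i, ((s.count x).factorial : ℂ) * (z x : ℂ) ^ s.count x := by
    refine Finset.prod_congr rfl fun x hx => ?_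
    rw [Multiset.count_cons_of_ne (Finset.ne_of_mem_erase hx)]
  rw [h3, Multiset.count_cons_self, Nat.factorial_succ]
  push_cast
  ring

variable [Finite F] {P}

open Classical in
/-- the adjoint at a monomial -/
theorem adj_pr {d : ι → ℕ} {z : ι → ℕ} {S : Set ι} (hd : ∀ i ∈ S, 0 < d i) (hP : ∀ i ∈ S, Prm (P i))
    (hz : ∀ i ∈ S, ∀ j ∈ S, ip (d i) (P j) (P i) = ind (i = j) * (z i : ℂ)) {i : ι} (hi : i ∈ S)
    (t : Multiset ι) (ht : ∀ j ∈ t, j ∈ S) :
    adj (Fin (d i) → F) (P i) (pr P t) = ((t.count i * z i : ℕ) : ℂ) • pr P (t.erase i) := by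
  have hne : Nonempty (Fin (d i)) := ⟨⟨0, hd i hi⟩⟩
  have hnt : Nontrivial (Fin (d i) → F) := Function.nontrivial
  induction t using Multiset.induction_on with
  | empty => rw [pr_zero, adj_one, Multiset.count_zero, zero_mul, Nat.cast_zero, zero_smul]
  | cons j t ih =>
    have hj : j ∈ S := ht j (Multiset.mem_cons_self j t)
    rw [pr_cons, adj_mul (hP i hi), adj_prm (P i) (hP j hj), ih fun k hk => ht k (Multiset.mem_cons_of_mem hk),
      ← ip_eq_ipV, hz i hi j hj]
    by_cases hij : i = j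
    · subst hij
      rw [ind_pos rfl, one_mul, Multiset.erase_cons_head, Multiset.count_cons_self, Algebra.smul_mul_assoc, one_mul,
        Algebra.mul_smul_comm]
      by_cases hit : i ∈ t
      · rw [← pr_cons, Multiset.cons_erase hit, ← add_smul]
        congr 1
        push_cast
        ring
      · rw [Multiset.count_eq_zero_of_notMem hit, zero_mul, Nat.cast_zero, zero_smul, add_zero, zero_add, one_mul]
    · rw [ind_neg hij, zero_mul, zero_smul, zero_mul, zero_add, Multiset.erase_cons_tail t (Ne.symm hij), pr_cons,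
        Algebra.mul_smul_comm, Multiset.count_cons_of_ne hij]

open Classical in
/-- **Wick's formula** for orthogonal primitive elements -/
theorem wick {d : ι → ℕ} {z : ι → ℕ} {S : Set ι} (hd : ∀ i ∈ S, 0 < d i) (hP : ∀ i ∈ S, Prm (P i))
    (hH : ∀ i ∈ S, Hg (P i) (d i))
    (hz : ∀ i ∈ S, ∀ j ∈ S, ip (d i) (P j) (P i) = ind (i = j) * (z i : ℂ)) (s : Multiset ι) :
    ∀ (t : Multiset ι) (n : ℕ), (∀ j ∈ s, j ∈ S) → (∀ j ∈ t, j ∈ S) → (s.map d).sum = n →
      ip n (pr P s) (pr P t) = ind (s = t) * nrm z s := by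
  induction s using Multiset.induction_on with
  | empty =>
    intro t n _ ht hn
    rw [Multiset.map_zero, Multiset.sum_zero] at hn
    subst hn
    have hsub : Subsingleton (Fin 0 → F) := inferInstance
    rw [ip_eq_ipV]
    rcases t.empty_or_exists_mem with rfl | ⟨j, hj⟩
    · rw [ind_pos rfl, one_mul, pr_zero, ipV, nrm, Multiset.toFinset_zero, Finset.prod_empty]
      have := finiteUnits (F := F) (Fin 0 → F)
      have h1 : ∀ T : ((Fin 0 → F) →ₗ[F] (Fin 0 → F))ˣ,
          (1 : Fam F).fn (Fin 0 → F) (T : (Fin 0 → F) →ₗ[F] (Fin 0 → F)) *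
            conj ((1 : Fam F).fn (Fin 0 → F) (T : (Fin 0 → F) →ₗ[F] (Fin 0 → F))) = 1 := by
        intro T
        rw [one_fn_of_subsingleton, map_one, mul_one]
      rw [avg_congr h1, avg_const]
    · have hne : (0 : Multiset ι) ≠ t := by
        rintro rfl
        exact Multiset.notMem_zero j hj
      rw [ind_neg hne, zero_mul, ipV, ← avg_zero (((Fin 0 → F) →ₗ[F] (Fin 0 → F))ˣ)]
      refine avg_congr fun T => ?_
      have h2 := hg_pr P (d := d) (s := t) fun i hi => hH i (ht i hi)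
      have h3 : 0 < (t.map d).sum := by
        obtain ⟨t', rfl⟩ := Multiset.exists_cons_of_mem hj
        rw [Multiset.map_cons, Multiset.sum_cons]
        exact Nat.add_pos_left (hd j (ht j hj)) _
      rw [h2 (Fin 0 → F) _ (by rw [Module.finrank_fin_fun]; exact h3.ne), map_zero, mul_zero]
  | cons i s ih =>
    intro t n hs ht hn
    have hi : i ∈ S := hs i (Multiset.mem_cons_self i s)
    rw [Multiset.map_cons, Multiset.sum_cons] at hn
    set n' := (s.map d).sum with hn'
    have e : ((Fin (d i) → F) × (Fin n' → F)) ≃ₗ[F] (Fin n → F) := by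
      refine LinearEquiv.ofFinrankEq _ _ ?_
      rw [Module.finrank_prod, Module.finrank_fin_fun, Module.finrank_fin_fun, Module.finrank_fin_fun]
      exact hn
    have hφ : Hg (P i) (Module.finrank F (Fin (d i) → F)) := by
      rw [Module.finrank_fin_fun]
      exact hH i hi
    rw [ip_eq_ipV, ipV_congr e, pr_cons, mul_comm, ipV_mul hφ, adj_pr hd hP hz hi t ht, ipV_smul_right, ← ip_eq_ipV,
      ih (t.erase i) n' (fun j hj => hs j (Multiset.mem_cons_of_mem hj))
        (fun j hj => ht j (Multiset.mem_of_mem_erase hj)) rfl, map_natCast]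
    by_cases hit : i ∈ t
    · by_cases hst : s = t.erase i
      · have h1 : i ::ₘ s = t := by rw [hst, Multiset.cons_erase hit]
        rw [ind_pos hst, ind_pos h1, nrm_cons, ← h1, Multiset.count_cons_self]
        push_cast
        ring
      · have h1 : i ::ₘ s ≠ t := by
          rintro rfl
          exact hst (Multiset.erase_cons_head i s).symm
        rw [ind_neg hst, ind_neg h1, zero_mul, zero_mul, mul_zero]
    · have h1 : i ::ₘ s ≠ t := by
        rintro rfl
        exact hit (Multiset.mem_cons_self i s)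
      rw [Multiset.count_eq_zero_of_notMem hit, zero_mul, Nat.cast_zero, zero_mul, ind_neg h1, zero_mul]

end wick

/-! ### the inner products of the `R_k(θ^a)` -/

section rf

variable {K : Type w} [Field K] [Algebra F K] {θ : K →*₀ ℂ}

theorem lba_zero [Finite K] (h : Polynomial F) : lba θ 0 h = lba θ (Nat.card Kˣ) h := by
  rw [lba, lba]
  congr 1
  refine Multiset.map_congr rfl fun x _ => ?_
  by_cases hx : x = 0
  · rw [if_pos hx, if_pos hx]
  · rw [if_neg hx, if_neg hx, pow_zero, ← map_pow]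
    have h1 : (Units.mk0 x hx) ^ Nat.card Kˣ = 1 := pow_card_eq_one'
    have h2 := congrArg (fun u : Kˣ => (u : K)) h1
    simp only [Units.val_pow_eq_pow_val, Units.val_mk0, Units.val_one] at h2
    rw [h2, map_one]

theorem Rf_zero [Finite K] (k : ℕ) : Rf (F := F) θ k 0 = Rf θ k (Nat.card Kˣ) := by
  have h : lba (F := F) θ 0 = lba θ (Nat.card Kˣ) := funext lba_zero
  rw [Rf, Rf, h]

open Classical in
theorem ip_Rf {N M : ℕ} (ctx : Ctx F θ N M) {k : ℕ} (hk : 0 < k) (hkN : k ≤ N) (a b : ℕ) :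
    ip k (Rf (F := F) θ k a) (Rf θ k b) =
      (((Finset.range k).filter fun j => b ≡ a * Nat.card F ^ j [MOD (Nat.card F ^ k - 1)]).card : ℂ) := by
  have := ctx.finF
  have := ctx.finK
  have hdvd : Nat.card F ^ k - 1 ∣ Nat.card Kˣ := by
    rw [ctx.card]
    exact ctx.dvd k hk hkN
  have hc0 : Nat.card Kˣ ≠ 0 := Nat.card_pos.ne'
  have hc1 : Nat.card Kˣ ≡ 0 [MOD (Nat.card F ^ k - 1)] := (Nat.modEq_zero_iff_dvd).2 hdvd
  -- nonzero exponents
  have key : ∀ a b : ℕ, a ≠ 0 → b ≠ 0 → ip k (Rf (F := F) θ k a) (Rf θ k b) =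
      (((Finset.range k).filter fun j => b ≡ a * Nat.card F ^ j [MOD (Nat.card F ^ k - 1)]).card : ℂ) := by
    intro a b ha hb
    have : Finite ((Fin k → F) →ₗ[F] (Fin k → F)) := finiteHom
    have := Fintype.ofFinite (((Fin k → F) →ₗ[F] (Fin k → F))ˣ)
    have h1 := Cfsg.Agent.H139.Cusp.inner_kap (F := F) (K := K) (V := Fin k → F) (Module.finrank_fin_fun F) hk
      (fun h hh hd => ctx.spl h hh (hd.trans hkN)) hdvd ctx.inj ha hb
    rw [Cfsg.Agent.H139.Cusp.card_pairs_eq (Nat.one_le_iff_ne_zero.2 Nat.card_pos.ne') hk, Nat.cast_mul,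
      mul_div_cancel_left₀ _ (Nat.cast_ne_zero.2 hk.ne')] at h1
    rw [← h1, ip_eq_ipV, ipV_eq_classInner]
    have h2 : ∀ (a : ℕ) (ha : a ≠ 0) (T : (Fin k → F) →ₗ[F] (Fin k → F)), (Rf (F := F) θ k a).fn (Fin k → F) T =
        Cfsg.Agent.H139.Cusp.kap (Cfsg.Agent.H139.Cusp.lb K (Cfsg.Agent.H139.Cusp.powTheta θ a ha)) T ⊤ := by
      intro a ha T
      rw [Rf, comp_fn, if_pos (Module.finrank_fin_fun F), kapF_fn]
      congr 1
      exact funext fun h => lba_eq_lb θ ha h
    simp only [h2 a ha, h2 b hb]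
  by_cases ha : a = 0
  · by_cases hb : b = 0
    · subst ha hb
      rw [Rf_zero, key _ _ hc0 hc0]
      congr 2
      refine Finset.filter_congr fun j _ => ?_
      have h1 := hc1.mul_right (Nat.card F ^ j)
      exact ⟨fun h => (hc1.symm.trans h).trans h1, fun h => (hc1.trans h).trans h1.symm⟩
    · subst ha
      rw [Rf_zero, key _ _ hc0 hb]
      congr 2
      refine Finset.filter_congr fun j _ => ?_
      have h1 := hc1.mul_right (Nat.card F ^ j)
      exact ⟨fun h => h.trans h1, fun h => h.trans h1.symm⟩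
  · by_cases hb : b = 0
    · subst hb
      rw [Rf_zero, key _ _ ha hc0]
      congr 2
      refine Finset.filter_congr fun j _ => ?_
      exact ⟨fun h => hc1.symm.trans h, fun h => hc1.trans h⟩
    · exact key a b ha hb

end rf

/-! ### labels -/

section lab

open Cfsg.Agent.H577.GLB.Std

theorem torZ_iff {q M k : ℕ} [NeZero M] (hq : 1 ≤ q) (c : ZMod M) :
    TorZ (q : ℤ) M k c ↔ M ∣ c.val * (q ^ k - 1) := by
  rw [← ZMod.natCast_eq_zero_iff, TorZ]
  have h1 : 1 ≤ q ^ k := Nat.one_le_pow _ _ hq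
  push_cast [Nat.cast_sub h1]
  rw [ZMod.natCast_zmod_val, mul_comm]

theorem expo_mul {q M k : ℕ} [NeZero M] (hq : 1 ≤ q) {c : ZMod M} (h : TorZ (q : ℤ) M k c) :
    expo q M k c * M = c.val * (q ^ k - 1) := Nat.div_mul_cancel ((torZ_iff hq c).1 h)

theorem expo_modEq {q M k : ℕ} [NeZero M] (hq : 2 ≤ q) (hk : 0 < k) {c c' : ZMod M} (h : TorZ (q : ℤ) M k c)
    (h' : TorZ (q : ℤ) M k c') (j : ℕ) :
    expo q M k c' ≡ expo q M k c * q ^ j [MOD (q ^ k - 1)] ↔ c' = (q : ZMod M) ^ j * c := by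
  have hM : 0 < M := Nat.pos_of_ne_zero (NeZero.ne M)
  have hq1 : 1 < q ^ k := Nat.one_lt_pow hk.ne' hq
  have hpos : 0 < q ^ k - 1 := by omega
  have h1 := expo_mul (by omega) h
  have h1' := expo_mul (by omega) h'
  rw [← Nat.ModEq.mul_right_cancel_iff' (c := M) hM.ne', h1']
  have h2 : expo q M k c * q ^ j * M = c.val * q ^ j * (q ^ k - 1) := by
    rw [mul_right_comm, h1]
    ring
  rw [h2, mul_comm (q ^ k - 1) M, Nat.ModEq.mul_right_cancel_iff' hpos.ne', ← ZMod.natCast_eq_natCast_iff]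
  push_cast
  rw [ZMod.natCast_zmod_val, ZMod.natCast_zmod_val, mul_comm]

open Classical in
theorem canon_spec (Q : ℤ) {M : ℕ} [NeZero M] (c : ZMod M) : ∃ j : ℕ, canon Q M c = (Q : ZMod M) ^ j * c := by
  have hne : {n : ℕ | ∃ j : ℕ, n = ((Q : ZMod M) ^ j * c).val}.Nonempty := ⟨_, 0, rfl⟩
  obtain ⟨j, hj⟩ := Nat.sInf_mem hne
  refine ⟨j, ?_⟩
  rw [canon, hj, ZMod.natCast_zmod_val]

open Classical in
theorem canon_val (Q : ℤ) {M : ℕ} [NeZero M] (c : ZMod M) :
    (canon Q M c).val = sInf {n : ℕ | ∃ j : ℕ, n = ((Q : ZMod M) ^ j * c).val} := by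
  have hne : {n : ℕ | ∃ j : ℕ, n = ((Q : ZMod M) ^ j * c).val}.Nonempty := ⟨_, 0, rfl⟩
  obtain ⟨j, hj⟩ := Nat.sInf_mem hne
  rw [canon, hj, ZMod.natCast_zmod_val]

theorem canon_le (Q : ℤ) {M : ℕ} [NeZero M] (c : ZMod M) (j : ℕ) : (canon Q M c).val ≤ ((Q : ZMod M) ^ j * c).val := by
  rw [canon_val]
  exact Nat.sInf_le ⟨j, rfl⟩

theorem canon_canon (Q : ℤ) {M : ℕ} [NeZero M] (c : ZMod M) : canon Q M (canon Q M c) = canon Q M c := by
  apply ZMod.val_injective
  apply le_antisymm
  · have h := canon_le Q (canon Q M c) 0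
    rwa [pow_zero, one_mul] at h
  · obtain ⟨j, hj⟩ := canon_spec Q (canon Q M c)
    obtain ⟨i, hi⟩ := canon_spec Q c
    have h := canon_le Q c (j + i)
    rw [hj]
    have h2 : (Q : ZMod M) ^ j * canon Q M c = (Q : ZMod M) ^ (j + i) * c := by rw [hi, pow_add, mul_assoc]
    rw [h2]
    exact h

theorem torZ_mul {Q : ℤ} {M k : ℕ} {c : ZMod M} (h : TorZ Q M k c) (a : ZMod M) : TorZ Q M k (a * c) := by
  unfold TorZ at *
  rw [mul_left_comm, h, mul_zero]

theorem torZ_canon {Q : ℤ} {M k : ℕ} [NeZero M] {c : ZMod M} (h : TorZ Q M k c) : TorZ Q M k (canon Q M c) := by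
  obtain ⟨j, hj⟩ := canon_spec Q c
  rw [hj]
  exact torZ_mul h _

/-- canonical labels in the same orbit are equal -/
theorem eq_of_canon {Q : ℤ} {M : ℕ} [NeZero M] {k : ℕ} (hk : 0 < k) {c c' : ZMod M} (h : TorZ Q M k c)
    (hc : canon Q M c = c) (hc' : canon Q M c' = c') {j : ℕ} (hj : c' = (Q : ZMod M) ^ j * c) : c' = c := by
  have h1 : ∀ i : ℕ, (Q : ZMod M) ^ (i * k) * c = c := by
    intro i
    have h2 : (Q : ZMod M) ^ k * c = c := by
      unfold TorZ at h
      rw [sub_mul, one_mul, sub_eq_zero] at h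
      exact h
    induction i with
    | zero => rw [zero_mul, pow_zero, one_mul]
    | succ i ih => rw [Nat.succ_mul, pow_add, mul_assoc, h2, ih]
  apply ZMod.val_injective
  apply le_antisymm
  · -- `c` is in the orbit of `c'`
    have h2 : j ≤ j * k := Nat.le_mul_of_pos_right j hk
    have h3 : (Q : ZMod M) ^ (j * k - j) * c' = c := by
      rw [hj, ← mul_assoc, ← pow_add, Nat.sub_add_cancel h2, h1]
    have h4 := canon_le Q c' (j * k - j)
    rwa [h3, hc'] at h4
  · have h4 := canon_le Q c j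
    rwa [← hj, hc] at h4

open Classical in
/-- **the inner products of the primitive elements** -/
theorem ip_Rc {K : Type w} [Field K] [Algebra F K] {θ : K →*₀ ℂ} {N M : ℕ} [NeZero M] (ctx : Ctx F θ N M) {v v' : Var M}
    (hv : GenVar (Nat.card F : ℤ) M v) (hv' : GenVar (Nat.card F : ℤ) M v') (hN : v.1 ≤ N) :
    ip v.1 (Rc (F := F) θ M v'.1 v'.2) (Rc θ M v.1 v.2) = ind (v = v') * (zz (Nat.card F : ℤ) M v : ℂ) := by
  obtain ⟨k, c⟩ := v
  obtain ⟨k', c'⟩ := v'
  obtain ⟨hk, hT, hc⟩ := hv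
  obtain ⟨hk', hT', hc'⟩ := hv'
  simp only at hk hT hc hk' hT' hc' hN ⊢
  have := ctx.finF
  have hq : 2 ≤ Nat.card F := Finite.one_lt_card
  by_cases hkk : k = k'
  · subst hkk
    rw [Rc, Rc, ip_Rf ctx hk hN]
    have h1 : ∀ j, (expo (Nat.card F) M k c ≡ expo (Nat.card F) M k c' * Nat.card F ^ j [MOD (Nat.card F ^ k - 1)]) ↔
        c = (Nat.card F : ZMod M) ^ j * c' := fun j => expo_modEq hq hk hT' hT j
    by_cases hcc : c = c'
    · subst hcc
      rw [ind_pos rfl, one_mul, zz]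
      congr 2
      refine Finset.filter_congr fun j _ => ?_
      rw [h1, Int.cast_natCast]
      exact eq_comm
    · rw [ind_neg fun h => hcc (congrArg Prod.snd h), zero_mul, Nat.cast_eq_zero, Finset.card_eq_zero, Finset.filter_eq_empty_iff]
      intro j _ h2
      rw [h1] at h2
      exact hcc (eq_of_canon (Q := (Nat.card F : ℤ)) hk hT' hc' hc (j := j) (by rw [Int.cast_natCast]; exact h2))
  · rw [ind_neg fun h => hkk (congrArg Prod.fst h), zero_mul, ip_eq_ipV, ipV, ← avg_zero (((Fin k → F) →ₗ[F] (Fin k → F))ˣ)]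
    refine avg_congr fun T => ?_
    rw [hg_Rc θ M k' c' (Fin k → F) _ (by rw [Module.finrank_fin_fun]; exact hkk), zero_mul]

end lab

/-! ### the realization -/

section real

open Cfsg.Agent.H577.GLB.Std MvPolynomial

variable {K : Type w} [Field K] [Algebra F K] (θ : K →*₀ ℂ) (M : ℕ)

/-- the realization of the standard model -/
noncomputable def piA : RS M →ₐ[ℂ] Fam F := aeval fun v : Var M => Rc θ M v.1 v.2

theorem piA_X (v : Var M) : piA (F := F) θ M (X v) = Rc θ M v.1 v.2 := by rw [piA, aeval_X]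

theorem pr_toMultiset {ι : Type*} (P : ι → Fam F) (m : ι →₀ ℕ) :
    pr P (Finsupp.toMultiset m) = m.prod fun i e => P i ^ e := by
  rw [pr, Finsupp.toMultiset_map, Finsupp.prod_toMultiset, Finsupp.prod_mapDomain_index]
  · exact fun _ => pow_zero _
  · exact fun _ _ _ => pow_add _ _ _

theorem nrm_toMultiset {ι : Type*} (z : ι → ℕ) (m : ι →₀ ℕ) :
    nrm z (Finsupp.toMultiset m) = m.prod fun i e => (e.factorial : ℂ) * (z i : ℂ) ^ e := by
  classical
  rw [nrm_eq z _ (U := m.support) (by rw [Finsupp.toFinset_toMultiset])]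
  refine Finset.prod_congr rfl fun i _ => ?_
  rw [Finsupp.count_toMultiset]

theorem sum_toMultiset {ι : Type*} (d : ι → ℕ) (m : ι →₀ ℕ) :
    ((Finsupp.toMultiset m).map d).sum = Finsupp.weight d m := by
  induction m using Finsupp.induction_linear with
  | zero => simp
  | add m m' h h' => rw [map_add, Multiset.map_add, Multiset.sum_add, h, h', map_add]
  | single i e =>
    rw [Finsupp.toMultiset_single, Multiset.map_nsmul, Multiset.map_singleton, Multiset.sum_nsmul, Multiset.sum_singleton,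
      Finsupp.weight_single]

variable {M}

theorem genR_le (Q : ℤ) [NeZero M] : GenR Q M ≤ supported ℂ {v : Var M | GenVar Q M v} := by
  classical
  rw [GenR, Algebra.adjoin_le_iff]
  rintro _ ⟨v, rfl⟩
  show rv Q M v.1 v.2 ∈ supported ℂ {v : Var M | GenVar Q M v}
  by_cases h : 0 < v.1 ∧ TorZ Q M v.1 v.2
  · rw [rv, if_pos h, X_mem_supported]
    exact ⟨h.1, torZ_canon h.2, canon_canon Q v.2⟩
  · rw [rv, if_neg h]
    exact Subalgebra.zero_mem _

theorem Hom.genVar {Q : ℤ} [NeZero M] {n : ℕ} {x : RS M} (hx : x ∈ Hom Q M n) {m : Var M →₀ ℕ} (hm : m ∈ x.support)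
    {v : Var M} (hv : v ∈ m.support) : GenVar Q M v := by
  have h1 := genR_le Q hx.1
  rw [mem_supported] at h1
  exact h1 (Finset.mem_coe.2 ((mem_vars v).2 ⟨m, hm, hv⟩))

theorem Hom.weight {Q : ℤ} {n : ℕ} {x : RS M} (hx : x ∈ Hom Q M n) {m : Var M →₀ ℕ} (hm : m ∈ x.support) :
    Finsupp.weight (fun v : Var M => v.1) m = n :=
  (mem_weightedHomogeneousSubmodule ℂ _ n x).1 hx.2 (mem_support_iff.1 hm)

variable {θ}

/-- **the realization is an isometry** (R2) -/
theorem ip_piA {N : ℕ} [NeZero M] (ctx : Ctx F θ N M) {n : ℕ} (hn : n ≤ N) {x y : RS M}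
    (hx : x ∈ Hom (Nat.card F : ℤ) M n) (hy : y ∈ Hom (Nat.card F : ℤ) M n) :
    ip n (piA (F := F) θ M x) (piA θ M y) = form (Nat.card F : ℤ) M x y := by
  classical
  have := ctx.finF
  let P : Var M → Fam F := fun v => Rc θ M v.1 v.2
  let S : Set (Var M) := {v | GenVar (Nat.card F : ℤ) M v ∧ v.1 ≤ N}
  have hexp : ∀ x : RS M, piA (F := F) θ M x = ∑ m ∈ x.support, x.coeff m • pr P (Finsupp.toMultiset m) := by
    intro x
    conv_lhs => rw [x.as_sum]
    rw [map_sum]
    refine Finset.sum_congr rfl fun m _ => ?_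
    rw [piA, aeval_monomial, pr_toMultiset, Algebra.smul_def]
  have hS : ∀ (x : RS M), x ∈ Hom (Nat.card F : ℤ) M n → ∀ m ∈ x.support, ∀ v ∈ Finsupp.toMultiset m, v ∈ S := by
    intro x hx m hm v hv
    have h1 : v ∈ m.support := (Finsupp.mem_toMultiset m v).1 hv
    refine ⟨Hom.genVar hx hm h1, ?_⟩
    have h2 := Hom.weight hx hm
    have h3 : v.1 ≤ Finsupp.weight (fun v : Var M => v.1) m :=
      Finsupp.le_weight_of_ne_zero' _ (Finsupp.mem_support_iff.1 h1)
    omega
  have hW : ∀ m ∈ x.support, ∀ m' ∈ y.support, ip n (pr P (Finsupp.toMultiset m)) (pr P (Finsupp.toMultiset m')) =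
      ind (m = m') * m.prod (fun v e => (e.factorial : ℂ) * (zz (Nat.card F : ℤ) M v : ℂ) ^ e) := by
    intro m hm m' hm'
    have h1 := wick (P := P) (d := fun v : Var M => v.1) (z := zz (Nat.card F : ℤ) M) (S := S)
      (fun v hv => hv.1.1) (fun v _ => prm_Rc θ M v.1 v.2) (fun v _ => hg_Rc θ M v.1 v.2)
      (fun v hv v' hv' => ip_Rc ctx hv.1 hv'.1 hv.2) (Finsupp.toMultiset m) (Finsupp.toMultiset m') n
      (hS x hx m hm) (hS y hy m' hm') (by rw [sum_toMultiset]; exact Hom.weight hx hm)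
    rw [nrm_toMultiset] at h1
    rw [h1]
    congr 1
    exact ind_congr ⟨fun h => Multiset.toFinsupp.symm.injective h, fun h => by rw [h]⟩
  rw [hexp x, hexp y, ip_eq_ipV, ipV_sum_left, form]
  refine Finset.sum_congr rfl fun m hm => ?_
  rw [ipV_smul_left, ipV_sum_right, mul_assoc]
  congr 1
  rw [Finset.sum_congr rfl fun m' hm' => by rw [ipV_smul_right, ← ip_eq_ipV, hW m hm m' hm']]
  by_cases hmy : m ∈ y.support
  · rw [Finset.sum_eq_single m]
    · rw [ind_pos rfl, one_mul]
    · intro m' _ hne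
      rw [ind_neg (Ne.symm hne), zero_mul, mul_zero]
    · exact fun h => absurd hmy h
  · rw [Finset.sum_eq_zero, MvPolynomial.notMem_support_iff.1 hmy, map_zero, zero_mul]
    intro m' hm'
    rw [ind_neg, zero_mul, mul_zero]
    rintro rfl
    exact hmy hm'

end real

end Cfsg.Agent.H623.GLn
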