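import Cfsg.Agent.H623.GLn.D4C
import Cfsg.Agent.H505.S4536.DC.Main
import Cfsg.Agent.H614.GLn.LabHom
import Cfsg.Agent.H112.GLB.Gb3

/-!
# S4536, (D4): the choice of the block of the smaller group (standard model)
-/

set_option autoImplicit false

open Cfsg MvPolynomial
open scoped ComplexConjugate TensorProduct

namespace Cfsg.Agent.H623.GLn

open Cfsg.Agent.H614 Cfsg.Agent.H614.GLn Cfsg.Agent.H577.GLB.Std
open Cfsg.Agent.H577.GLB.Real (coP PhiF PGen frm)
open Cfsg.Agent.H614.GLn.RSt (form_add_left form_add_right form_smul_left form_smul_right form_sum_left form_sum_right)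

variable {Q : ℤ} {M p : ℕ} [NeZero M]

theorem SameFam.symm' {m : ℕ} {t t' : ZMod M → Fin m → ℕ} (h : SameFam Q M p t t') : SameFam Q M p t' t :=
  fun δ hδ => ⟨(h δ hδ).1.symm, (h δ hδ).2.symm⟩

theorem SameFam.trans' {m : ℕ} {t t' t'' : ZMod M → Fin m → ℕ} (h : SameFam Q M p t t') (h' : SameFam Q M p t' t'') :
    SameFam Q M p t t'' :=
  fun δ hδ => ⟨(h δ hδ).1.trans (h' δ hδ).1, (h δ hδ).2.trans (h' δ hδ).2⟩

open Classical in
/-- a combination `y` of Schur products over `p'`-labels which has a component in the family of `t₁`: the truncation of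
`y` has a component in the family of `t₁` -/
theorem exists_t2 (hp : p.Prime) (hQ : IsUnit (Q : ZMod M)) (hQp : IsUnit (Q : ZMod p)) {m l : ℕ} (hl : l ≤ m)
    {y : RS M} (hy : y ∈ Submodule.span ℂ {x : RS M | ∃ t' : LabZ Q M m l, POnly M p t'.t ∧ x = SchP Q M t'.t})
    (t₁ : LabZ Q M m l) (h₁ : form Q M y (SchP Q M t₁.t) ≠ 0) :
    ∃ t₂ : LabZ Q M m l, form Q M (tauP Q M p y) (SchP Q M t₂.t) ≠ 0 ∧ SameFam Q M p t₁.t t₂.t := by
  have hset : {x : RS M | ∃ t' : LabZ Q M m l, POnly M p t'.t ∧ x = SchP Q M t'.t} =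
      Set.range (fun t : {t : LabZ Q M m l // POnly M p t.t} => SchP Q M t.1.t) := by
    ext x
    constructor
    · rintro ⟨t', ht', rfl⟩
      exact ⟨⟨t', ht'⟩, rfl⟩
    · rintro ⟨t, rfl⟩
      exact ⟨t.1, t.2, rfl⟩
  rw [hset, Finsupp.mem_span_range_iff_exists_finsupp] at hy
  obtain ⟨c, hc⟩ := hy
  have hform : ∀ t t' : LabZ Q M m l, form Q M (SchP Q M t.t) (SchP Q M t'.t) = if t = t' then 1 else 0 := by
    intro t t'
    rw [RSt.form_SchP hQ t t']
    by_cases h : t = t'
    · rw [if_pos h, if_pos (congrArg LabZ.t h)]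
    · rw [if_neg h, if_neg fun h' => h (LabZ.ext h')]
  -- the component
  let y₁ : RS M := ∑ t ∈ c.support with SameFam Q M p t₁.t t.1.t, c t • SchP Q M t.1.t
  let y₂ : RS M := ∑ t ∈ c.support with ¬ SameFam Q M p t₁.t t.1.t, c t • SchP Q M t.1.t
  have hy12 : y = y₁ + y₂ := by
    rw [← hc, Finsupp.sum]
    exact (Finset.sum_filter_add_sum_filter_not _ _ _).symm
  by_contra hno
  push Not at hno
  -- tauP y₂ is orthogonal to the family
  have h2 : ∀ t₂ : LabZ Q M m l, SameFam Q M p t₁.t t₂.t → form Q M (tauP Q M p y₂) (SchP Q M t₂.t) = 0 := by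
    intro t₂ h
    rw [map_sum, form_sum_left]
    refine Finset.sum_eq_zero fun t ht => ?_
    rw [map_smul, form_smul_left, RSt.tau_fam hQ hp hl, mul_zero]
    intro h'
    exact (Finset.mem_filter.1 ht).2 (SameFam.trans' h (SameFam.symm' h'))
  have h3 : ∀ t₂ : LabZ Q M m l, form Q M (tauP Q M p y₁) (SchP Q M t₂.t) = 0 := by
    intro t₂
    by_cases h : SameFam Q M p t₁.t t₂.t
    · have h4 : form Q M (tauP Q M p y) (SchP Q M t₂.t) = 0 := by
        by_contra h5
        exact hno t₂ h5 h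
      rw [hy12, map_add, form_add_left, h2 t₂ h, add_zero] at h4
      exact h4
    · rw [map_sum, form_sum_left]
      refine Finset.sum_eq_zero fun t ht => ?_
      rw [map_smul, form_smul_left, RSt.tau_fam hQ hp hl, mul_zero]
      intro h'
      exact h (SameFam.trans' (Finset.mem_filter.1 ht).2 h')
  have hy₁ : y₁ ∈ Hom Q M l := Submodule.sum_mem _ fun t _ => Submodule.smul_mem _ _ (RSt.SchP_mem_Hom hQ t.1)
  have hτ : tauP Q M p y₁ ∈ Hom Q M l := Cfsg.Agent.H112.GLB.tauP_mem_hom p hy₁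
  have h4 : tauP Q M p y₁ = 0 := by
    refine Cfsg.Agent.H112.GLB.eq_zero_of_form hτ ?_
    have h5 := RSt.Hom_le_span hQ hl hτ
    have h6 : ∀ z ∈ Submodule.span ℂ (Set.range fun t : LabZ Q M m l => SchP Q M t.t),
        form Q M (tauP Q M p y₁) z = 0 := by
      intro z hz
      induction hz using Submodule.span_induction with
      | mem z hz => obtain ⟨t, rfl⟩ := hz; exact h3 t
      | zero => exact RSt.form_zero_right Q M _
      | add z z' _ _ hz hz' => rw [form_add_right, hz, hz', add_zero]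
      | smul a z _ hz => rw [form_smul_right, hz, mul_zero]
    exact h6 _ h5
  -- linear independence
  have hind := Cfsg.Agent.H505.S4536.DC.Fin.tau_linearIndependent (M := M) hp hQ hQp hl
  have h5 : ∀ t ∈ c.support.filter (fun t => SameFam Q M p t₁.t t.1.t), c t = 0 := by
    refine linearIndependent_iff'.1 hind (c.support.filter (fun t => SameFam Q M p t₁.t t.1.t)) (fun t => c t) ?_
    rw [← h4, map_sum]
    refine Finset.sum_congr rfl fun t _ => ?_
    rw [map_smul]
  apply h₁
  rw [hy12, form_add_left, form_sum_left, form_sum_left]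
  have h6 : ∀ t ∈ c.support.filter (fun t => SameFam Q M p t₁.t t.1.t),
      form Q M (c t • SchP Q M t.1.t) (SchP Q M t₁.t) = 0 := by
    intro t ht
    rw [h5 t ht, zero_smul, RSt.form_zero_left]
  have h7 : ∀ t ∈ c.support.filter (fun t => ¬ SameFam Q M p t₁.t t.1.t),
      form Q M (c t • SchP Q M t.1.t) (SchP Q M t₁.t) = 0 := by
    intro t ht
    rw [form_smul_left, hform, if_neg, mul_zero]
    intro h
    apply (Finset.mem_filter.1 ht).2
    rw [h]
    exact fun δ _ => ⟨rfl, SameCol.refl _ _⟩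
  rw [Finset.sum_eq_zero h6, Finset.sum_eq_zero h7, add_zero]

end Cfsg.Agent.H623.GLn
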