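import Cfsg.Agent.H623.GLn.D4R
import Cfsg.Agent.H112.GLB.Abs
import Cfsg.Agent.H505.S4536.Ext
import Cfsg.Agent.H583.GLn.Cusp
import Cfsg.Agent.H76.GLB.ProdBlk
import Cfsg.Agent.H901.Sl.JJ
import Cfsg.Agent.H111.GLExt.Ext
import Cfsg.Agent.H501.GLn.Reg
import Cfsg.Agent.H157.GLB.DG
import Cfsg.Agent.H614.GLn.GB1

/-!
# S4536, (D4): the pairing is not zero
-/

set_option autoImplicit false

open Cfsg
open scoped ComplexConjugate TensorProduct MatrixGroups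

namespace Cfsg.Agent.H623.GLn

open Cfsg.Agent.H614 Cfsg.Agent.H614.GLn Cfsg.Agent.H577.GLB.Std Cfsg.Agent.H624.Sl
open Cfsg.Agent.H577.GLB.Real (Om coP PhiF PGen frm IsLab)

universe u

variable {F : Type u} [Field F] [Finite F] {K : Type u} [Field K] [Algebra F K] {θ : K →*₀ ℂ} {N M : ℕ} [NeZero M]
  {p : ℕ}

/-- `ev_ext` for matrices -/
theorem ext_matrix (hctx : Ctx F θ N M) (hp : p.Prime) (hpF : p ≠ ringChar F) (E : IntermediateField F K) [Finite E]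
    {f k : ℕ} (hE : Module.finrank F E = f) (hfk : f * k ≤ N) (z : Eˣ) (hz : ∃ a : ℕ, orderOf z = p ^ a)
    (hgen : Algebra.adjoin F {(z : E)} = ⊤) (A : GL (Fin k) E) (hA : ¬ p ∣ orderOf A) {x : RS M}
    (hx : x ∈ PGen (Nat.card F : ℤ) M p) :
    (piA (F := F) θ M x).fn (Fin k → E) (rsM F ((z : E) • A.1)) =
      Om (F := E) θ M k (PhiF (Nat.card F : ℤ) M f x) A := by
  obtain ⟨a, ha⟩ := hz
  have h1 : (z : E) ^ p ^ a = 1 := by
    rw [← ha, ← Units.val_pow_eq_pow_val, pow_orderOf_eq_one, Units.val_one]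
  have h2 : (Matrix.toLin' A.1) ^ orderOf A = 1 := by
    rw [← Matrix.toLin'_pow, ← Units.val_pow_eq_pow_val, pow_orderOf_eq_one, Units.val_one, Matrix.toLin'_one]
    rfl
  have hV : Module.finrank F (Fin k → E) ≤ N := by
    rw [Module.finrank_pi_fintype, Finset.sum_const, Finset.card_univ, Fintype.card_fin, smul_eq_mul, hE, mul_comm]
    exact hfk
  have h3 := Cfsg.Agent.H111.GLExt.ev_ext (K := K) hctx hp hpF hV (z : E) a h1 hgen (Matrix.toLin' A.1) (orderOf A)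
    ((Nat.Prime.coprime_iff_not_dvd hp).2 hA).symm h2 hx
  rw [hE] at h3
  rw [Om, ← piA_eq, ← h3, piA_eq]
  congr 1
  rw [rsM, map_smul]

/-- **The pairing is not zero.** -/
theorem pairing_ne_zero (hctx : Ctx F θ N M) (hp : p.Prime) (hpF : p ≠ ringChar F) {m n l f k : ℕ} (hn : n ≤ N)
    (hQ : IsUnit (((Nat.card F : ℕ) : ℤ) : ZMod M))
    {χ : IrrCharacter (GL (Fin n) F)} {t : LabZ (Nat.card F) M m n} (ht : IsLab θ M m n χ t)
    (hx : SchP (Nat.card F : ℤ) M t.t ∈ PGen (Nat.card F : ℤ) M p)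
    {δ : ZMod M} (hδ : PReg M p δ) (hf : 0 < f) (hk : 0 < k) (hfk : f * k ≤ n) (hl : l ≤ n)
    (E : IntermediateField F K) [Finite E] (hctxE : Ctx E θ k M)
    (hE : Module.finrank F E = f) (hT : TorZ (Nat.card E : ℤ) M k δ)
    (e : ((Fin k → E) × (Fin l → F)) ≃ₗ[F] (Fin n → F)) (z : Eˣ) (hz : ∃ a : ℕ, orderOf z = p ^ a) (hz1 : z ≠ 1)
    (hgen : Algebra.adjoin F {(z : E)} = ⊤) (t₂ : LabZ (Nat.card F) M m l)
    (hne : form (Nat.card F : ℤ) M (tauP (Nat.card F : ℤ) M p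
      (MvPolynomial.pderiv (f * k, canon (Nat.card F : ℤ) M δ) (SchP (Nat.card F : ℤ) M t.t)))
        (SchP (Nat.card F : ℤ) M t₂.t) ≠ 0)
    {θ₀ : IrrCharacter (GL (Fin k) E)}
    (hθ₀ : ∀ g, (θ₀ : GL (Fin k) E → ℂ) g = (-1) ^ (k - 1) * Om (F := E) θ M k (rv (Nat.card E : ℤ) M k δ) g)
    {χ₂ : IrrCharacter (GL (Fin l) F)} (ht₂ : IsLab θ M m l χ₂ t₂)
    {H : Subgroup (GL (Fin n) F)} [Fintype H] (hH : (jj e).range = H) (ψ : IrrCharacter H)
    (hψ : ∀ (x : GL (Fin k) E × GL (Fin l) F) (h : H), jj e x = h →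
      (ψ : H → ℂ) h = (θ₀ : GL (Fin k) E → ℂ) x.1 * (χ₂ : GL (Fin l) F → ℂ) x.2) :
    classInner (pRegularPart p (fun c : H => (χ : GL (Fin n) F → ℂ) (jj e (scl k z, 1) * (c : GL (Fin n) F))))
      (ψ : H → ℂ) ≠ 0 := by
  intro h0
  obtain ⟨s, hs⟩ := ht
  obtain ⟨s₂, hs₂⟩ := ht₂
  have hcard : ((Nat.card E : ℕ) : ℤ) = ((Nat.card F : ℕ) : ℤ) ^ f := by
    rw [← hE, ← Nat.cast_pow]
    congr 1
    exact Module.natCard_eq_pow_finrank
  have hpE : p ≠ ringChar E := by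
    have h1 : ringChar E = ringChar F := by
      have := ringChar.charP F
      have h2 : CharP E (ringChar F) := charP_of_injective_algebraMap (algebraMap F E).injective _
      exact (ringChar.eq_iff.2 h2)
    rw [h1]
    exact hpF
  have h1 := section_pairing (θ := θ) (m := l) (n := n) hp hctx hctxE hcard e z hz hz1 le_rfl (hl.trans hn)
    (fun A hA x hx => ext_matrix hctx hp hpF E hE (hfk.trans hn) z hz hgen A hA hx)
    (fun x hx => Cfsg.Agent.H501.GLn.Om_tauP hctxE hp hpE le_rfl hx)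
    (fun x hx => Cfsg.Agent.H501.GLn.Om_tauP hctx hp hpF (hl.trans hn) hx) hx
    (Cfsg.Agent.H112.GLB.rv_mem_hom (Q := (Nat.card E : ℤ)) k δ) (Cfsg.Agent.H112.GLB.schP_mem_hom hQ t₂)
    (Cfsg.Agent.H901.Sl.jj_injective e) hH
    (((-1 : ℂ) ^ (k - 1) * ((s₂ : ℤ) : ℂ)) • (ψ : H → ℂ)) (by
      intro x h hxh
      rw [Pi.smul_apply, hψ x h hxh, hθ₀, hs₂, smul_eq_mul, Pi.smul_apply, smul_eq_mul]
      have h2 : ((-1 : ℂ) ^ (k - 1)) * ((-1 : ℂ) ^ (k - 1)) = 1 := by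
        rw [← mul_pow]; simp
      linear_combination ((s₂ : ℤ) : ℂ) * (χ₂ : GL (Fin l) F → ℂ) x.2 * Om (F := E) θ M k (rv (Nat.card E : ℤ) M k δ) x.1 * h2)
  have h2 : classInner (pRegularPart p (fun c : H => Om (F := F) θ M n (SchP (Nat.card F : ℤ) M t.t)
      (jj e (scl k z, 1) * (c : GL (Fin n) F)))) (((-1 : ℂ) ^ (k - 1) * ((s₂ : ℤ) : ℂ)) • (ψ : H → ℂ)) = 0 := by
    have h3 : (fun c : H => Om (F := F) θ M n (SchP (Nat.card F : ℤ) M t.t) (jj e (scl k z, 1) * (c : GL (Fin n) F))) =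
        ((s : ℤ) : ℂ) • (fun c : H => (χ : GL (Fin n) F → ℂ) (jj e (scl k z, 1) * (c : GL (Fin n) F))) := by
      funext c
      rw [hs]
      rfl
    rw [h3, ← Cfsg.Agent.H646.RegInner.regMap_apply, map_smul, Characters.Core.classInner_smul_left,
      Cfsg.Agent.H646.RegInner.regMap_apply, Characters.Core.classInner_smul_right, h0, mul_zero, mul_zero]
  rw [h2, hcard] at h1
  have hT' : TorZ (((Nat.card F : ℕ) : ℤ) ^ f) M k δ := hcard ▸ hT
  have h3 := section_der hp hQ hf hk hT' hδ hx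
    (frm (Nat.card F : ℤ) M (SchP (Nat.card F : ℤ) M t₂.t) ∘ₗ (tauP (Nat.card F : ℤ) M p).toLinearMap)
  have h4 := h1.trans h3
  exact mul_ne_zero (lamF_ne_zero hQ hf hk hT') hne h4.symm

end Cfsg.Agent.H623.GLn
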