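import Cfsg.Agent.H614.GLn.Basic

/-!
# The Hall algebra of `GL_n(F)`: Mackey formula, adjoints, derivations (helper623, S4536 task G7)

* `avg` : averages over finite types; `ind` : indicators;
* `blk A u T` : the block triangular endomorphism `[[A, u], [0, T]]` of `V₁ × V₂`;
* `Dl f A T` : the average over `u : V₂ → V₁` of `f (V₁ × V₂, blk A u T)` (Harish-Chandra restriction);
* `mackey` : `Dl (f * g) A T = ∑_{N₁, N₂ stable} Dl f (A mod N₁) (T mod N₂) * Dl g (A | N₁) (T | N₂)`;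
* `ipV V f g` : the inner product of the class functions `f (V, ·)`, `g (V, ·)` of `GL(V)`; `ip_eq_ipV`;
* `Hg φ k` : `φ` is homogeneous of degree `k`; `adj φ V₁` : the adjoint of the multiplication by `φ` (`dim V₁ = k`);
* `ipV_mul` : `⟨f * φ, h⟩ = ⟨f, adj V₁ φ h⟩`;
* `Prm φ` : `φ` is primitive (cuspidal); `prm_kapF`, `Prm.comp`, `prm_Rf`, `prm_Rc`; `Prm.Dl_eq_zero`;
* `adj_mul` : for `φ` primitive, `adj V₁ φ (f * g) = adj V₁ φ f * g + f * adj V₁ φ g`;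
* `adj_one`, `adj_prm` : `adj V₁ φ ψ = ⟨ψ, φ⟩ • 1` for `ψ` primitive.
-/

set_option autoImplicit false

open scoped ComplexConjugate

namespace Cfsg.Agent.H623.GLn


open Cfsg.Agent.H614.GLn

universe u

/-! ### averages -/

/-- the average of a function on a finite type -/
noncomputable def avg (X : Type*) (f : X → ℂ) : ℂ := (Nat.card X : ℂ)⁻¹ * ∑ᶠ x, f x

theorem avg_eq (X : Type*) [Fintype X] (f : X → ℂ) : avg X f = (Nat.card X : ℂ)⁻¹ * ∑ x, f x := by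
  rw [avg, finsum_eq_sum_of_fintype]

theorem avg_congr {X : Type*} {f g : X → ℂ} (h : ∀ x, f x = g x) : avg X f = avg X g := by
  rw [funext h]

theorem avg_equiv {X Y : Type*} (e : X ≃ Y) (f : Y → ℂ) : avg X (fun x => f (e x)) = avg Y f := by
  rw [avg, avg, Nat.card_congr e, finsum_comp_equiv e]

theorem avg_zero (X : Type*) : avg X (fun _ => 0) = 0 := by
  rw [avg, finsum_zero, mul_zero]

theorem avg_const (X : Type*) [Finite X] [Nonempty X] (c : ℂ) : avg X (fun _ => c) = c := by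
  have := Fintype.ofFinite X
  rw [avg_eq, Finset.sum_const, Finset.card_univ, nsmul_eq_mul, ← mul_assoc, Nat.card_eq_fintype_card,
    inv_mul_cancel₀ (Nat.cast_ne_zero.2 Fintype.card_ne_zero), one_mul]

theorem avg_mul_left (X : Type*) [Finite X] (c : ℂ) (f : X → ℂ) : avg X (fun x => c * f x) = c * avg X f := by
  have := Fintype.ofFinite X
  rw [avg_eq, avg_eq, ← Finset.mul_sum]
  ring

theorem avg_add (X : Type*) [Finite X] (f g : X → ℂ) : avg X (fun x => f x + g x) = avg X f + avg X g := by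
  have := Fintype.ofFinite X
  rw [avg_eq, avg_eq, avg_eq, Finset.sum_add_distrib]
  ring

theorem avg_sum (X : Type*) [Finite X] {ι : Type*} (s : Finset ι) (f : ι → X → ℂ) :
    avg X (fun x => ∑ i ∈ s, f i x) = ∑ i ∈ s, avg X (f i) := by
  have := Fintype.ofFinite X
  rw [avg_eq, Finset.sum_comm, Finset.mul_sum]
  exact Finset.sum_congr rfl fun i _ => (avg_eq X (f i)).symm

theorem avg_prod (X Y : Type*) [Finite X] [Finite Y] (f : X → Y → ℂ) :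
    avg (X × Y) (fun z => f z.1 z.2) = avg X (fun x => avg Y (f x)) := by
  have := Fintype.ofFinite X
  have := Fintype.ofFinite Y
  rw [avg_eq, avg_eq, Fintype.sum_prod_type, Nat.card_prod, Nat.cast_mul, mul_inv, mul_assoc, Finset.mul_sum]
  congr 1
  exact Finset.sum_congr rfl fun x _ => (avg_eq Y (f x)).symm

theorem avg_comm (X Y : Type*) [Finite X] [Finite Y] (f : X → Y → ℂ) :
    avg X (fun x => avg Y (f x)) = avg Y (fun y => avg X (fun x => f x y)) := by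
  rw [← avg_prod, ← avg_prod, ← avg_equiv (Equiv.prodComm X Y)]
  rfl

theorem avg_mul (X Y : Type*) [Finite X] [Finite Y] (f : X → ℂ) (g : Y → ℂ) :
    avg (X × Y) (fun z => f z.1 * g z.2) = avg X f * avg Y g := by
  rw [avg_prod X Y (fun x y => f x * g y), mul_comm, ← avg_mul_left]
  refine avg_congr fun x => ?_
  rw [avg_mul_left, mul_comm]

/-- averages and surjective homomorphisms -/
theorem avg_of_surjective {H K : Type*} [AddGroup H] [AddGroup K] [Finite H] (π : H →+ K)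
    (hπ : Function.Surjective π) (f : K → ℂ) : avg H (fun h => f (π h)) = avg K f := by
  classical
  have : Finite K := Finite.of_surjective π hπ
  have := Fintype.ofFinite H
  have := Fintype.ofFinite K
  have hfib : ∀ k : K, (Finset.univ.filter fun h => π h = k).card = Nat.card π.ker := by
    intro k
    obtain ⟨h0, rfl⟩ := hπ k
    rw [← Fintype.card_subtype, ← Nat.card_eq_fintype_card]
    refine Nat.card_congr ⟨fun h => ⟨-h0 + h.1, ?_⟩, fun h => ⟨h0 + h.1, ?_⟩, fun h => ?_, fun h => ?_⟩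
    · rw [AddMonoidHom.mem_ker, map_add, h.2, map_neg, neg_add_cancel]
    · rw [map_add, (AddMonoidHom.mem_ker).1 h.2, add_zero]
    · exact Subtype.ext (add_neg_cancel_left _ _)
    · exact Subtype.ext (neg_add_cancel_left _ _)
  have h1 : ∑ h, f (π h) = (Nat.card π.ker : ℂ) * ∑ k, f k := by
    rw [← Finset.sum_fiberwise (s := Finset.univ) (g := π), Finset.mul_sum]
    refine Finset.sum_congr rfl fun k _ => ?_
    rw [Finset.sum_congr rfl fun h hh => by rw [(Finset.mem_filter.1 hh).2], Finset.sum_const, hfib, nsmul_eq_mul]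
  have h2 : (Nat.card H : ℂ) = (Nat.card π.ker : ℂ) * (Nat.card K : ℂ) := by
    have h3 : Nat.card H = ∑ k : K, (Finset.univ.filter fun h => π h = k).card := by
      rw [Nat.card_eq_fintype_card, ← Finset.card_univ]
      exact Finset.card_eq_sum_card_fiberwise fun _ _ => Finset.mem_coe.2 (Finset.mem_univ _)
    rw [h3, Finset.sum_congr rfl fun k _ => hfib k, Finset.sum_const, Finset.card_univ, smul_eq_mul,
      Nat.card_eq_fintype_card (α := K)]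
    push_cast
    ring
  have h4 : (Nat.card π.ker : ℂ) ≠ 0 := Nat.cast_ne_zero.2 Nat.card_pos.ne'
  rw [avg_eq, avg_eq, h1, h2, mul_inv, mul_mul_mul_comm, inv_mul_cancel₀ h4, one_mul]

/-! ### block triangular endomorphisms -/

section mackey

variable {F : Type u} [Field F]
variable {V₁ V₂ : Type u} [AddCommGroup V₁] [Module F V₁] [AddCommGroup V₂] [Module F V₂]

/-- the block triangular endomorphism `[[A, u], [0, T]]` -/
def blk (A : V₁ →ₗ[F] V₁) (u : V₂ →ₗ[F] V₁) (T : V₂ →ₗ[F] V₂) : (V₁ × V₂) →ₗ[F] (V₁ × V₂) :=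
  (A ∘ₗ LinearMap.fst F V₁ V₂ + u ∘ₗ LinearMap.snd F V₁ V₂).prod (T ∘ₗ LinearMap.snd F V₁ V₂)

@[simp] theorem blk_apply (A : V₁ →ₗ[F] V₁) (u : V₂ →ₗ[F] V₁) (T : V₂ →ₗ[F] V₂) (v : V₁ × V₂) :
    blk A u T v = (A v.1 + u v.2, T v.2) := rfl

/-- the shear -/
def shear (t : V₂ →ₗ[F] V₁) : (V₁ × V₂) ≃ₗ[F] (V₁ × V₂) :=
  LinearEquiv.ofLinearMap (blk LinearMap.id t LinearMap.id) (blk LinearMap.id (-t) LinearMap.id)
    (by ext <;> simp) (by ext <;> simp)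

@[simp] theorem shear_apply (t : V₂ →ₗ[F] V₁) (v : V₁ × V₂) : shear t v = (v.1 + t v.2, v.2) := rfl

/-- Harish-Chandra restriction -/
noncomputable def Dl (f : Fam F) (A : V₁ →ₗ[F] V₁) (T : V₂ →ₗ[F] V₂) : ℂ :=
  avg (V₂ →ₗ[F] V₁) fun u => f.fn (V₁ × V₂) (blk A u T)

/-- conjugation by a shear -/
theorem term_shear (f g : Fam F) (A : V₁ →ₗ[F] V₁) (u t : V₂ →ₗ[F] V₁) (T : V₂ →ₗ[F] V₂)
    (W : Submodule F (V₁ × V₂)) :
    f.term g (V₁ × V₂) (blk A u T) (W.map ((shear t : (V₁ × V₂) ≃ₗ[F] (V₁ × V₂)) : (V₁ × V₂) →ₗ[F] (V₁ × V₂))) =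
      f.term g (V₁ × V₂) (blk A (u + (A ∘ₗ t - t ∘ₗ T)) T) W := by
  refine f.term_conj g (shear t) ?_ W
  rintro ⟨a, b⟩
  simp only [shear_apply, blk_apply, map_add, LinearMap.add_apply, LinearMap.sub_apply, LinearMap.comp_apply]
  refine Prod.ext ?_ rfl
  simp only
  abel

/-! ### subspaces of `V₁ × V₂` -/

/-- the homomorphisms mapping `N₂` to `N₁` -/
def homs (N₁ : Submodule F V₁) (N₂ : Submodule F V₂) : Submodule F (V₂ →ₗ[F] V₁) where
  carrier := {t | ∀ x ∈ N₂, t x ∈ N₁}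
  add_mem' h h' x hx := N₁.add_mem (h x hx) (h' x hx)
  zero_mem' _ _ := N₁.zero_mem
  smul_mem' c _ h x hx := N₁.smul_mem c (h x hx)

theorem mem_homs {N₁ : Submodule F V₁} {N₂ : Submodule F V₂} {t : V₂ →ₗ[F] V₁} :
    t ∈ homs N₁ N₂ ↔ ∀ x ∈ N₂, t x ∈ N₁ := Iff.rfl

theorem mem_map_shear {N₁ : Submodule F V₁} {N₂ : Submodule F V₂} {t : V₂ →ₗ[F] V₁} {v : V₁ × V₂} :
    v ∈ (N₁.prod N₂).map ((shear t : (V₁ × V₂) ≃ₗ[F] (V₁ × V₂)) : (V₁ × V₂) →ₗ[F] (V₁ × V₂)) ↔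
      v.1 - t v.2 ∈ N₁ ∧ v.2 ∈ N₂ := by
  rw [Submodule.mem_map]
  constructor
  · rintro ⟨w, hw, rfl⟩
    rw [Submodule.mem_prod] at hw
    simp only [LinearEquiv.coe_coe, shear_apply, add_sub_cancel_right]
    exact hw
  · rintro ⟨h1, h2⟩
    refine ⟨(v.1 - t v.2, v.2), Submodule.mem_prod.2 ⟨h1, h2⟩, ?_⟩
    simp

/-- the data of a subspace of `V₁ × V₂` -/
def dat (W : Submodule F (V₁ × V₂)) : Submodule F V₁ × Submodule F V₂ :=
  (W.comap (LinearMap.inl F V₁ V₂), W.map (LinearMap.snd F V₁ V₂))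

theorem dat_shear (N₁ : Submodule F V₁) (N₂ : Submodule F V₂) (t : V₂ →ₗ[F] V₁) :
    dat ((N₁.prod N₂).map ((shear t : (V₁ × V₂) ≃ₗ[F] (V₁ × V₂)) : (V₁ × V₂) →ₗ[F] (V₁ × V₂))) = (N₁, N₂) := by
  refine Prod.ext ?_ ?_
  · ext a
    have h1 := mem_map_shear (N₁ := N₁) (N₂ := N₂) (t := t) (v := (a, (0 : V₂)))
    refine h1.trans ?_
    simp
  · ext b
    show b ∈ Submodule.map _ _ ↔ _
    rw [Submodule.mem_map]
    constructor
    · rintro ⟨v, hv, rfl⟩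
      exact (mem_map_shear.1 hv).2
    · intro hb
      refine ⟨(t b, b), mem_map_shear.2 ⟨?_, hb⟩, rfl⟩
      rw [sub_self]
      exact N₁.zero_mem

theorem exists_shear (W : Submodule F (V₁ × V₂)) : ∃ t : V₂ →ₗ[F] V₁,
    ((dat W).1.prod (dat W).2).map ((shear t : (V₁ × V₂) ≃ₗ[F] (V₁ × V₂)) : (V₁ × V₂) →ₗ[F] (V₁ × V₂)) = W := by
  let π : W →ₗ[F] (W.map (LinearMap.snd F V₁ V₂)) :=
    ((LinearMap.snd F V₁ V₂).domRestrict W).codRestrict _ fun w => ⟨w.1, w.2, rfl⟩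
  have hπ : Function.Surjective π := by
    rintro ⟨_, w, hw, rfl⟩
    exact ⟨⟨w, hw⟩, rfl⟩
  obtain ⟨σ, hσ⟩ := LinearMap.exists_rightInverse_of_surjective π (LinearMap.range_eq_top.2 hπ)
  obtain ⟨t, ht⟩ := LinearMap.exists_extend ((LinearMap.fst F V₁ V₂) ∘ₗ W.subtype ∘ₗ σ)
  have key : ∀ b (hb : b ∈ W.map (LinearMap.snd F V₁ V₂)), (t b, b) ∈ W := by
    intro b hb
    have h1 : t b = ((σ ⟨b, hb⟩ : W) : V₁ × V₂).1 := LinearMap.congr_fun ht ⟨b, hb⟩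
    have h2 : ((σ ⟨b, hb⟩ : W) : V₁ × V₂).2 = b := congrArg Subtype.val (LinearMap.congr_fun hσ ⟨b, hb⟩)
    have h3 : (t b, b) = ((σ ⟨b, hb⟩ : W) : V₁ × V₂) := Prod.ext h1 h2.symm
    rw [h3]
    exact (σ ⟨b, hb⟩).2
  refine ⟨t, ?_⟩
  ext v
  rw [mem_map_shear]
  constructor
  · rintro ⟨h1, h2⟩
    have h3 : (v.1 - t v.2, (0 : V₂)) ∈ W := h1
    have h4 := W.add_mem h3 (key _ h2)
    have h5 : (v.1 - t v.2, (0 : V₂)) + (t v.2, v.2) = v := by
      refine Prod.ext ?_ ?_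
      · simp
      · simp
    rwa [h5] at h4
  · intro hv
    have h2 : v.2 ∈ W.map (LinearMap.snd F V₁ V₂) := ⟨v, hv, rfl⟩
    refine ⟨?_, h2⟩
    show (v.1 - t v.2, (0 : V₂)) ∈ W
    have h4 := W.sub_mem hv (key _ h2)
    have h5 : v - (t v.2, v.2) = (v.1 - t v.2, (0 : V₂)) := by
      refine Prod.ext ?_ ?_
      · simp
      · simp
    rwa [h5] at h4

theorem shear_eq_iff (N₁ : Submodule F V₁) (N₂ : Submodule F V₂) (t t' : V₂ →ₗ[F] V₁) :
    (N₁.prod N₂).map ((shear t' : (V₁ × V₂) ≃ₗ[F] (V₁ × V₂)) : (V₁ × V₂) →ₗ[F] (V₁ × V₂)) =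
      (N₁.prod N₂).map ((shear t : (V₁ × V₂) ≃ₗ[F] (V₁ × V₂)) : (V₁ × V₂) →ₗ[F] (V₁ × V₂)) ↔
    t' - t ∈ homs N₁ N₂ := by
  constructor
  · intro h x hx
    have h1 : (t' x, x) ∈ (N₁.prod N₂).map
        ((shear t' : (V₁ × V₂) ≃ₗ[F] (V₁ × V₂)) : (V₁ × V₂) →ₗ[F] (V₁ × V₂)) := by
      rw [mem_map_shear]
      refine ⟨?_, hx⟩
      rw [sub_self]
      exact N₁.zero_mem
    rw [h, mem_map_shear] at h1
    exact h1.1
  · intro h
    ext v
    rw [mem_map_shear, mem_map_shear]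
    refine and_congr_left fun hv => ?_
    have h1 : v.1 - t v.2 = (v.1 - t' v.2) + (t' - t) v.2 := by
      rw [LinearMap.sub_apply]
      abel
    rw [h1]
    exact (N₁.add_mem_iff_left (h _ hv)).symm

section

variable [Finite V₁] [Finite V₂]

theorem finiteHom : Finite (V₂ →ₗ[F] V₁) := DFunLike.finite _

open Classical in
/-- the sum over the subspaces with given data -/
theorem sum_dat [Fintype (Submodule F (V₁ × V₂))] [Fintype (V₂ →ₗ[F] V₁)] (N₁ : Submodule F V₁)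
    (N₂ : Submodule F V₂) (G : Submodule F (V₁ × V₂) → ℂ) :
    ∑ t : V₂ →ₗ[F] V₁, G ((N₁.prod N₂).map
      ((shear t : (V₁ × V₂) ≃ₗ[F] (V₁ × V₂)) : (V₁ × V₂) →ₗ[F] (V₁ × V₂))) =
    (Nat.card (homs N₁ N₂) : ℂ) * ∑ W ∈ Finset.univ.filter (fun W => dat W = (N₁, N₂)), G W := by
  have h0 : ∀ t : V₂ →ₗ[F] V₁, (N₁.prod N₂).map
      ((shear t : (V₁ × V₂) ≃ₗ[F] (V₁ × V₂)) : (V₁ × V₂) →ₗ[F] (V₁ × V₂)) ∈
      Finset.univ.filter (fun W => dat W = (N₁, N₂)) := fun t =>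
    Finset.mem_filter.2 ⟨Finset.mem_univ _, dat_shear N₁ N₂ t⟩
  rw [← Finset.sum_fiberwise_of_maps_to (fun t _ => h0 t), Finset.mul_sum]
  refine Finset.sum_congr rfl fun W hW => ?_
  rw [Finset.sum_congr rfl fun t ht => by rw [(Finset.mem_filter.1 ht).2], Finset.sum_const, nsmul_eq_mul]
  congr 2
  obtain ⟨t, ht⟩ := exists_shear W
  rw [(Finset.mem_filter.1 hW).2] at ht
  rw [← Fintype.card_subtype, ← Nat.card_eq_fintype_card]
  refine Nat.card_congr ⟨fun x => ⟨x.1 - t, ?_⟩, fun y => ⟨y.1 + t, ?_⟩, fun x => ?_, fun y => ?_⟩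
  · rw [← shear_eq_iff, x.2, ht]
  · rw [← ht, shear_eq_iff, add_sub_cancel_right]
    exact y.2
  · exact Subtype.ext (sub_add_cancel _ _)
  · exact Subtype.ext (add_sub_cancel_right _ _)

end

/-! ### the terms at `N₁ × N₂` -/

theorem stable_prod_iff {A : V₁ →ₗ[F] V₁} {u : V₂ →ₗ[F] V₁} {T : V₂ →ₗ[F] V₂} {N₁ : Submodule F V₁}
    {N₂ : Submodule F V₂} : N₁.prod N₂ ≤ (N₁.prod N₂).comap (blk A u T) ↔
      (N₁ ≤ N₁.comap A ∧ N₂ ≤ N₂.comap T) ∧ u ∈ homs N₁ N₂ := by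
  constructor
  · intro h
    refine ⟨⟨fun a ha => ?_, fun b hb => ?_⟩, fun b hb => ?_⟩
    · have h1 := h (Submodule.mem_prod.2 ⟨ha, N₂.zero_mem⟩ : ((a, 0) : V₁ × V₂) ∈ N₁.prod N₂)
      rw [Submodule.mem_comap, blk_apply, Submodule.mem_prod] at h1
      simpa using h1.1
    · have h1 := h (Submodule.mem_prod.2 ⟨N₁.zero_mem, hb⟩ : ((0, b) : V₁ × V₂) ∈ N₁.prod N₂)
      rw [Submodule.mem_comap, blk_apply, Submodule.mem_prod] at h1
      exact h1.2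
    · have h1 := h (Submodule.mem_prod.2 ⟨N₁.zero_mem, hb⟩ : ((0, b) : V₁ × V₂) ∈ N₁.prod N₂)
      rw [Submodule.mem_comap, blk_apply, Submodule.mem_prod] at h1
      simpa using h1.1
  · rintro ⟨⟨h1, h2⟩, h3⟩ v hv
    rw [Submodule.mem_prod] at hv
    rw [Submodule.mem_comap, blk_apply, Submodule.mem_prod]
    exact ⟨N₁.add_mem (h1 hv.1) (h3 _ hv.2), h2 hv.2⟩

/-- `(V₁ × V₂) / (N₁ × N₂) ≅ V₁ / N₁ × V₂ / N₂` -/
noncomputable def quotProd (N₁ : Submodule F V₁) (N₂ : Submodule F V₂) :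
    ((V₁ × V₂) ⧸ N₁.prod N₂) ≃ₗ[F] (V₁ ⧸ N₁) × (V₂ ⧸ N₂) :=
  (Submodule.quotEquivOfEq _ _ (by rw [LinearMap.ker_prodMap, Submodule.ker_mkQ, Submodule.ker_mkQ])).trans
    ((N₁.mkQ.prodMap N₂.mkQ).quotKerEquivOfSurjective
      (Function.Surjective.prodMap N₁.mkQ_surjective N₂.mkQ_surjective))

theorem quotProd_mk (N₁ : Submodule F V₁) (N₂ : Submodule F V₂) (v : V₁ × V₂) :
    quotProd N₁ N₂ ((N₁.prod N₂).mkQ v) = (N₁.mkQ v.1, N₂.mkQ v.2) := rfl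

/-- `N₁ × N₂` as a subspace -/
def subProd (N₁ : Submodule F V₁) (N₂ : Submodule F V₂) : (N₁ × N₂) ≃ₗ[F] (N₁.prod N₂) where
  toFun x := ⟨(x.1, x.2), x.1.2, x.2.2⟩
  invFun y := (⟨y.1.1, y.2.1⟩, ⟨y.1.2, y.2.2⟩)
  map_add' _ _ := rfl
  map_smul' _ _ := rfl
  left_inv _ := rfl
  right_inv _ := rfl

theorem term_prod (f g : Fam F) {A : V₁ →ₗ[F] V₁} {u : V₂ →ₗ[F] V₁} {T : V₂ →ₗ[F] V₂} {N₁ : Submodule F V₁}
    {N₂ : Submodule F V₂} (h₁ : N₁ ≤ N₁.comap A) (h₂ : N₂ ≤ N₂.comap T) (hu : u ∈ homs N₁ N₂) :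
    f.term g (V₁ × V₂) (blk A u T) (N₁.prod N₂) =
      f.fn ((V₁ ⧸ N₁) × (V₂ ⧸ N₂)) (blk (N₁.mapQ N₁ A h₁) (N₂.mapQ N₁ u hu) (N₂.mapQ N₂ T h₂)) *
      g.fn (N₁ × N₂) (blk (A.restrict h₁) (u.restrict hu) (T.restrict h₂)) := by
  rw [Fam.term_of (stable_prod_iff.2 ⟨⟨h₁, h₂⟩, hu⟩)]
  congr 1
  · refine (f.conj' (quotProd N₁ N₂) ?_).symm
    intro x
    obtain ⟨v, rfl⟩ := (N₁.prod N₂).mkQ_surjective x
    rw [quotProd_mk, blk_apply, Submodule.mkQ_apply, Submodule.mapQ_apply]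
    rfl
  · refine g.conj' (subProd N₁ N₂) ?_
    intro x
    rfl

/-! ### the restriction maps on `homs` -/

/-- restriction and reduction of homomorphisms -/
def resRed (N₁ : Submodule F V₁) (N₂ : Submodule F V₂) :
    homs N₁ N₂ →+ (((V₂ ⧸ N₂) →ₗ[F] (V₁ ⧸ N₁)) × (N₂ →ₗ[F] N₁)) where
  toFun u := (N₂.mapQ N₁ u.1 u.2, u.1.restrict u.2)
  map_zero' := by
    refine Prod.ext ?_ ?_
    · apply Submodule.linearMap_qext
      rfl
    · rfl
  map_add' u u' := by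
    refine Prod.ext ?_ ?_
    · apply Submodule.linearMap_qext
      rfl
    · rfl

theorem resRed_surjective (N₁ : Submodule F V₁) (N₂ : Submodule F V₂) : Function.Surjective (resRed N₁ N₂) := by
  rintro ⟨w, r⟩
  obtain ⟨s, hs⟩ := LinearMap.exists_rightInverse_of_surjective N₁.mkQ N₁.range_mkQ
  obtain ⟨r', hr'⟩ := LinearMap.exists_extend r
  have hs' : ∀ x, N₁.mkQ (s x) = x := fun x => LinearMap.congr_fun hs x
  have hr'' : ∀ x : N₂, r' x = r x := fun x => LinearMap.congr_fun hr' x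
  let u : V₂ →ₗ[F] V₁ := s ∘ₗ w ∘ₗ N₂.mkQ + N₁.subtype ∘ₗ r'
  have hu0 : ∀ x ∈ N₂, u x = (r' x : V₁) := by
    intro x hx
    have h1 : N₂.mkQ x = 0 := (Submodule.Quotient.mk_eq_zero N₂).2 hx
    show s (w (N₂.mkQ x)) + (r' x : V₁) = _
    rw [h1, map_zero, map_zero, zero_add]
  refine ⟨⟨u, fun x hx => ?_⟩, ?_⟩
  · rw [hu0 x hx]
    exact (r' x).2
  · refine Prod.ext ?_ ?_
    · apply Submodule.linearMap_qext
      ext x
      show N₁.mkQ (s (w (N₂.mkQ x)) + (r' x : V₁)) = w (N₂.mkQ x)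
      have h2 : N₁.mkQ (r' x : V₁) = 0 := (Submodule.Quotient.mk_eq_zero N₁).2 (r' x).2
      rw [map_add, hs', h2, add_zero]
    · ext x
      show u x = (r x : V₁)
      rw [hu0 x x.2, hr'']

/-! ### the Mackey formula -/

section

variable [Finite V₁] [Finite V₂]

theorem finite_quot' (N : Submodule F V₁) : Finite (V₁ ⧸ N) := Finite.of_surjective N.mkQ N.mkQ_surjective

open Classical in
/-- the term of the Mackey formula at `(N₁, N₂)` -/
noncomputable def mterm (f g : Fam F) (A : V₁ →ₗ[F] V₁) (T : V₂ →ₗ[F] V₂) (N : Submodule F V₁ × Submodule F V₂) : ℂ :=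
  if h : N.1 ≤ N.1.comap A ∧ N.2 ≤ N.2.comap T then
    Dl f (N.1.mapQ N.1 A h.1) (N.2.mapQ N.2 T h.2) * Dl g (A.restrict h.1) (T.restrict h.2) else 0

theorem sum_term_prod [Fintype (V₂ →ₗ[F] V₁)] (f g : Fam F) (A : V₁ →ₗ[F] V₁) (T : V₂ →ₗ[F] V₂)
    (N : Submodule F V₁ × Submodule F V₂) :
    ∑ u : V₂ →ₗ[F] V₁, f.term g (V₁ × V₂) (blk A u T) (N.1.prod N.2) =
      (Nat.card (homs N.1 N.2) : ℂ) * mterm f g A T N := by
  classical
  obtain ⟨N₁, N₂⟩ := N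
  simp only
  by_cases h : N₁ ≤ N₁.comap A ∧ N₂ ≤ N₂.comap T
  · have := finite_quot' N₁
    have := finite_quot' N₂
    have : Finite ((V₂ ⧸ N₂) →ₗ[F] (V₁ ⧸ N₁)) := finiteHom
    have : Finite (N₂ →ₗ[F] N₁) := finiteHom
    have := Fintype.ofFinite (homs N₁ N₂)
    have h1 : mterm f g A T (N₁, N₂) = avg (homs N₁ N₂) fun u =>
        f.term g (V₁ × V₂) (blk A u.1 T) (N₁.prod N₂) := by
      rw [mterm, dif_pos h]
      show Dl f (N₁.mapQ N₁ A h.1) (N₂.mapQ N₂ T h.2) * Dl g (A.restrict h.1) (T.restrict h.2) = _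
      rw [Dl, Dl, ← avg_mul, ← avg_of_surjective (resRed N₁ N₂) (resRed_surjective N₁ N₂)]
      refine avg_congr fun u => ?_
      rw [term_prod f g h.1 h.2 u.2]
      rfl
    rw [h1, avg_eq, ← mul_assoc, mul_inv_cancel₀ (Nat.cast_ne_zero.2 Nat.card_pos.ne'), one_mul]
    rw [← Finset.sum_subset (Finset.subset_univ (Finset.univ.filter (· ∈ homs N₁ N₂)))]
    · exact Finset.sum_subtype _ (fun x => by simp) _
    · intro u _ hu
      apply Fam.term_of_not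
      rw [stable_prod_iff]
      intro h2
      exact hu (Finset.mem_filter.2 ⟨Finset.mem_univ _, h2.2⟩)
  · rw [mterm, dif_neg h, mul_zero]
    refine Finset.sum_eq_zero fun u _ => Fam.term_of_not ?_
    rw [stable_prod_iff]
    exact fun h2 => h h2.1

/-- **the Mackey formula** -/
theorem mackey [Fintype (Submodule F V₁ × Submodule F V₂)] (f g : Fam F) (A : V₁ →ₗ[F] V₁) (T : V₂ →ₗ[F] V₂) :
    Dl (f * g) A T = ∑ N : Submodule F V₁ × Submodule F V₂, mterm f g A T N := by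
  classical
  have hfin : Finite (V₂ →ₗ[F] V₁) := finiteHom
  have := Fintype.ofFinite (V₂ →ₗ[F] V₁)
  have := Fintype.ofFinite (Submodule F (V₁ × V₂))
  have hc : (Nat.card (V₂ →ₗ[F] V₁) : ℂ) ≠ 0 := Nat.cast_ne_zero.2 Nat.card_pos.ne'
  rw [Dl, avg_eq]
  have h1 : ∀ u : V₂ →ₗ[F] V₁, (f * g).fn (V₁ × V₂) (blk A u T) = ∑ N : Submodule F V₁ × Submodule F V₂,
      ∑ W ∈ Finset.univ.filter (fun W => dat W = N), f.term g (V₁ × V₂) (blk A u T) W := by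
    intro u
    rw [Fam.mul_fn']
    exact (Finset.sum_fiberwise (s := Finset.univ) (g := dat) _).symm
  rw [Finset.sum_congr rfl fun u _ => h1 u, Finset.sum_comm, Finset.mul_sum]
  refine Finset.sum_congr rfl fun N _ => ?_
  have hN : (Nat.card (homs N.1 N.2) : ℂ) ≠ 0 := Nat.cast_ne_zero.2 Nat.card_pos.ne'
  -- average over the shears
  have h2 : (Nat.card (homs N.1 N.2) : ℂ) * ∑ u : V₂ →ₗ[F] V₁, ∑ W ∈ Finset.univ.filter (fun W => dat W = N),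
      f.term g (V₁ × V₂) (blk A u T) W =
      (Nat.card (V₂ →ₗ[F] V₁) : ℂ) * ((Nat.card (homs N.1 N.2) : ℂ) * mterm f g A T N) := by
    rw [Finset.mul_sum]
    have h3 : ∀ u : V₂ →ₗ[F] V₁, (Nat.card (homs N.1 N.2) : ℂ) * ∑ W ∈ Finset.univ.filter (fun W => dat W = N),
        f.term g (V₁ × V₂) (blk A u T) W =
        ∑ t : V₂ →ₗ[F] V₁, f.term g (V₁ × V₂) (blk A (u + (A ∘ₗ t - t ∘ₗ T)) T) (N.1.prod N.2) := by
      intro u
      rw [← sum_dat N.1 N.2 (fun W => f.term g (V₁ × V₂) (blk A u T) W)]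
      exact Finset.sum_congr rfl fun t _ => term_shear f g A u t T _
    rw [Finset.sum_congr rfl fun u _ => h3 u, Finset.sum_comm]
    have h4 : ∀ t : V₂ →ₗ[F] V₁, ∑ u : V₂ →ₗ[F] V₁,
        f.term g (V₁ × V₂) (blk A (u + (A ∘ₗ t - t ∘ₗ T)) T) (N.1.prod N.2) =
        (Nat.card (homs N.1 N.2) : ℂ) * mterm f g A T N := by
      intro t
      rw [← sum_term_prod]
      exact Equiv.sum_comp (Equiv.addRight (A ∘ₗ t - t ∘ₗ T))
        fun u => f.term g (V₁ × V₂) (blk A u T) (N.1.prod N.2)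
    rw [Finset.sum_congr rfl fun t _ => h4 t, Finset.sum_const, nsmul_eq_mul, Finset.card_univ,
      Nat.card_eq_fintype_card (α := V₂ →ₗ[F] V₁)]
  have h5 : ∑ u : V₂ →ₗ[F] V₁, ∑ W ∈ Finset.univ.filter (fun W => dat W = N), f.term g (V₁ × V₂) (blk A u T) W =
      (Nat.card (V₂ →ₗ[F] V₁) : ℂ) * mterm f g A T N := by
    apply mul_left_cancel₀ hN
    rw [h2]
    ring
  rw [h5, ← mul_assoc, inv_mul_cancel₀ hc, one_mul]

end

end mackey

variable {F : Type u} [Field F]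



section dl

variable {V₁ V₂ : Type u} [AddCommGroup V₁] [Module F V₁] [AddCommGroup V₂] [Module F V₂]
variable {V₁' V₂' : Type u} [AddCommGroup V₁'] [Module F V₁'] [AddCommGroup V₂'] [Module F V₂']

/-- invariance of the restriction -/
theorem Dl_conj (f : Fam F) (e₁ : V₁ ≃ₗ[F] V₁') (e₂ : V₂ ≃ₗ[F] V₂') {A : V₁ →ₗ[F] V₁} {A' : V₁' →ₗ[F] V₁'}
    {T : V₂ →ₗ[F] V₂} {T' : V₂' →ₗ[F] V₂'} (h₁ : ∀ v, A' (e₁ v) = e₁ (A v)) (h₂ : ∀ v, T' (e₂ v) = e₂ (T v)) :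
    Dl f A' T' = Dl f A T := by
  rw [Dl, Dl, ← avg_equiv (LinearEquiv.arrowCongr e₂ e₁).toEquiv]
  refine avg_congr fun u => ?_
  refine f.conj' (e₁.prodCongr e₂) ?_
  rintro ⟨a, b⟩
  refine Prod.ext ?_ ?_
  · show A' (e₁ a) + (LinearEquiv.arrowCongr e₂ e₁ u) (e₂ b) = e₁ (A a + u b)
    rw [h₁, map_add, LinearEquiv.arrowCongr_apply, LinearEquiv.symm_apply_apply]
  · exact h₂ b

theorem fn_prod_left [Subsingleton V₁] (f : Fam F) (A : V₁ →ₗ[F] V₁) (u : V₂ →ₗ[F] V₁) (T : V₂ →ₗ[F] V₂) :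
    f.fn (V₁ × V₂) (blk A u T) = f.fn V₂ T := by
  let e : (V₁ × V₂) ≃ₗ[F] V₂ := LinearEquiv.ofLinearMap (LinearMap.snd F V₁ V₂) (LinearMap.inr F V₁ V₂)
    (by ext; rfl) (by
      apply LinearMap.ext
      intro v
      exact Prod.ext (Subsingleton.elim _ _) rfl)
  exact (f.conj' e fun v => rfl).symm

theorem fn_prod_right [Subsingleton V₂] (f : Fam F) (A : V₁ →ₗ[F] V₁) (u : V₂ →ₗ[F] V₁) (T : V₂ →ₗ[F] V₂) :
    f.fn (V₁ × V₂) (blk A u T) = f.fn V₁ A := by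
  let e : (V₁ × V₂) ≃ₗ[F] V₁ := LinearEquiv.ofLinearMap (LinearMap.fst F V₁ V₂) (LinearMap.inl F V₁ V₂)
    (by ext; rfl) (by
      apply LinearMap.ext
      intro v
      exact Prod.ext rfl (Subsingleton.elim _ _))
  refine (f.conj' e fun v => ?_).symm
  show A v.1 = A v.1 + u v.2
  rw [Subsingleton.elim v.2 0, map_zero, add_zero]

theorem Dl_left [Subsingleton V₁] [Finite V₂] (f : Fam F) (A : V₁ →ₗ[F] V₁) (T : V₂ →ₗ[F] V₂) :
    Dl f A T = f.fn V₂ T := by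
  have : Finite (V₂ →ₗ[F] V₁) := finiteHom
  rw [Dl, avg_congr fun u => fn_prod_left f A u T, avg_const]

theorem Dl_right [Subsingleton V₂] [Finite V₁] (f : Fam F) (A : V₁ →ₗ[F] V₁) (T : V₂ →ₗ[F] V₂) :
    Dl f A T = f.fn V₁ A := by
  have : Finite (V₂ →ₗ[F] V₁) := finiteHom
  rw [Dl, avg_congr fun u => fn_prod_right f A u T, avg_const]

end dl

/-! ### indicators -/

/-- the indicator of a proposition -/
noncomputable def ind (p : Prop) : ℂ := @ite ℂ p (Classical.propDecidable p) 1 0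

theorem ind_pos {p : Prop} (h : p) : ind p = 1 := if_pos h

theorem ind_neg {p : Prop} (h : ¬ p) : ind p = 0 := if_neg h

theorem ind_congr {p q : Prop} (h : p ↔ q) : ind p = ind q := by rw [propext h]

theorem ind_and (p q : Prop) : ind (p ∧ q) = ind p * ind q := by
  by_cases hp : p
  · by_cases hq : q
    · rw [ind_pos ⟨hp, hq⟩, ind_pos hp, ind_pos hq, one_mul]
    · rw [ind_neg (fun h => hq h.2), ind_neg hq, mul_zero]
  · rw [ind_neg (fun h => hp h.1), ind_neg hp, zero_mul]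

theorem card_sub_eq {α : Type*} [Fintype α] (P : α → Prop) : (Nat.card {x // P x} : ℂ) = ∑ x, ind (P x) := by
  classical
  rw [Nat.card_eq_fintype_card, Fintype.card_subtype, ← Finset.sum_boole]
  refine Finset.sum_congr rfl fun x _ => ?_
  by_cases h : P x
  · rw [ind_pos h, if_pos h]
  · rw [ind_neg h, if_neg h]

theorem sum_units_eq {V : Type u} [AddCommGroup V] [Module F V] [Fintype (V →ₗ[F] V)] [Fintype ((V →ₗ[F] V)ˣ)]
    (f : (V →ₗ[F] V) → ℂ) : ∑ T : (V →ₗ[F] V)ˣ, f (T : V →ₗ[F] V) = ∑ T : V →ₗ[F] V, ind (IsUnit T) * f T := by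
  classical
  rw [← Finset.sum_subset (Finset.subset_univ (Finset.univ.image fun T : (V →ₗ[F] V)ˣ => (T : V →ₗ[F] V)))]
  · rw [Finset.sum_image fun T _ T' _ h => Units.ext h]
    refine Finset.sum_congr rfl fun T _ => ?_
    rw [ind_pos T.isUnit, one_mul]
  · intro T _ hT
    rw [ind_neg, zero_mul]
    rintro ⟨T', rfl⟩
    exact hT (Finset.mem_image.2 ⟨T', Finset.mem_univ _, rfl⟩)

/-! ### inner products -/

/-- the inner product of two families on `GL(V)` -/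
noncomputable def ipV (V : Type u) [AddCommGroup V] [Module F V] (f g : Fam F) : ℂ :=
  avg ((V →ₗ[F] V)ˣ) fun T => f.fn V (T : V →ₗ[F] V) * conj (g.fn V (T : V →ₗ[F] V))

theorem ip_eq_ipV (n : ℕ) (f g : Fam F) : ip n f g = ipV (Fin n → F) f g := rfl

theorem finiteUnits (V : Type u) [AddCommGroup V] [Module F V] [Finite V] : Finite ((V →ₗ[F] V)ˣ) := by
  have : Finite (V →ₗ[F] V) := finiteHom
  infer_instance

theorem ipV_eq_classInner (V : Type u) [AddCommGroup V] [Module F V] [Fintype ((V →ₗ[F] V)ˣ)] (f g : Fam F) :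
    ipV V f g = Cfsg.classInner (fun T : (V →ₗ[F] V)ˣ => f.fn V (T : V →ₗ[F] V))
      (fun T : (V →ₗ[F] V)ˣ => g.fn V (T : V →ₗ[F] V)) := by
  rw [ipV, avg_eq]
  rfl

theorem card_units_eq {V : Type u} [AddCommGroup V] [Module F V] [Finite V] [Fintype (V →ₗ[F] V)] :
    (Nat.card ((V →ₗ[F] V)ˣ) : ℂ) = ∑ T : V →ₗ[F] V, ind (IsUnit T) := by
  have := finiteUnits (F := F) V
  have := Fintype.ofFinite ((V →ₗ[F] V)ˣ)
  have h1 := sum_units_eq (V := V) (F := F) (fun _ => (1 : ℂ))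
  rw [Finset.sum_const, Finset.card_univ, nsmul_eq_mul, mul_one] at h1
  rw [Nat.card_eq_fintype_card, h1]
  exact Finset.sum_congr rfl fun T _ => mul_one _

/-- `ipV` as a sum over all endomorphisms -/
theorem ipV_eq (V : Type u) [AddCommGroup V] [Module F V] [Finite V] [Fintype (V →ₗ[F] V)]
    (f g : Fam F) : ipV V f g = (Nat.card ((V →ₗ[F] V)ˣ) : ℂ)⁻¹ *
      ∑ T : V →ₗ[F] V, ind (IsUnit T) * (f.fn V T * conj (g.fn V T)) := by
  have := finiteUnits (F := F) V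
  have := Fintype.ofFinite ((V →ₗ[F] V)ˣ)
  rw [ipV, avg_eq, sum_units_eq (V := V) (F := F) (fun T => f.fn V T * conj (g.fn V T))]

theorem ipV_conj_symm (V : Type u) [AddCommGroup V] [Module F V] [Finite V] (f g : Fam F) : conj (ipV V f g) = ipV V g f := by
  have := finiteUnits (F := F) V
  have := Fintype.ofFinite ((V →ₗ[F] V)ˣ)
  rw [ipV, ipV, avg_eq, avg_eq, map_mul, map_inv₀, map_natCast, map_sum]
  congr 1
  refine Finset.sum_congr rfl fun T _ => ?_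
  rw [map_mul, Complex.conj_conj, mul_comm]

theorem ipV_congr {V V' : Type u} [AddCommGroup V] [Module F V] [AddCommGroup V'] [Module F V'] (e : V ≃ₗ[F] V')
    (f g : Fam F) : ipV V' f g = ipV V f g := by
  rw [ipV, ipV, ← avg_equiv (Units.mapEquiv (e.conjRingEquiv : Module.End F V ≃* Module.End F V')).toEquiv]
  refine avg_congr fun T => ?_
  have h : ∀ v, (e.conj (T : V →ₗ[F] V)) (e v) = e ((T : V →ₗ[F] V) v) := by
    intro v
    rw [LinearEquiv.conj_apply_apply, LinearEquiv.symm_apply_apply]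
  have h1 := f.conj' e h
  have h2 := g.conj' e h
  show f.fn V' (e.conj (T : V →ₗ[F] V)) * conj (g.fn V' (e.conj (T : V →ₗ[F] V))) = _
  rw [h1, h2]

/-! ### homogeneous families -/

/-- homogeneous of degree `k` -/
def Hg (φ : Fam F) (k : ℕ) : Prop :=
  ∀ (V : Type u) [AddCommGroup V] [Module F V] [Finite V] (T : V →ₗ[F] V), Module.finrank F V ≠ k → φ.fn V T = 0

section blocks

variable {V₁ V₂ : Type u} [AddCommGroup V₁] [Module F V₁] [AddCommGroup V₂] [Module F V₂]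

theorem blk_injective {A A' : V₁ →ₗ[F] V₁} {u u' : V₂ →ₗ[F] V₁} {T T' : V₂ →ₗ[F] V₂} (h : blk A u T = blk A' u' T') :
    A = A' ∧ u = u' ∧ T = T' := by
  refine ⟨LinearMap.ext fun a => ?_, LinearMap.ext fun b => ?_, LinearMap.ext fun b => ?_⟩
  · have h1 := LinearMap.congr_fun h (a, 0)
    rw [blk_apply, blk_apply] at h1
    simpa using congrArg Prod.fst h1
  · have h1 := LinearMap.congr_fun h (0, b)
    rw [blk_apply, blk_apply] at h1
    simpa using congrArg Prod.fst h1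
  · have h1 := LinearMap.congr_fun h (0, b)
    rw [blk_apply, blk_apply] at h1
    simpa using congrArg Prod.snd h1

theorem exists_blk {X : (V₁ × V₂) →ₗ[F] (V₁ × V₂)}
    (h : (⊤ : Submodule F V₁).prod (⊥ : Submodule F V₂) ≤ ((⊤ : Submodule F V₁).prod (⊥ : Submodule F V₂)).comap X) :
    ∃ (A : V₁ →ₗ[F] V₁) (u : V₂ →ₗ[F] V₁) (T : V₂ →ₗ[F] V₂), X = blk A u T := by
  refine ⟨LinearMap.fst F V₁ V₂ ∘ₗ X ∘ₗ LinearMap.inl F V₁ V₂, LinearMap.fst F V₁ V₂ ∘ₗ X ∘ₗ LinearMap.inr F V₁ V₂,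
    LinearMap.snd F V₁ V₂ ∘ₗ X ∘ₗ LinearMap.inr F V₁ V₂, ?_⟩
  have h0 : ∀ a, (X (a, 0)).2 = 0 := by
    intro a
    have h1 := h (Submodule.mem_prod.2 ⟨Submodule.mem_top, Submodule.zero_mem _⟩ : ((a, 0) : V₁ × V₂) ∈ _)
    rw [Submodule.mem_comap, Submodule.mem_prod] at h1
    simpa using h1.2
  apply LinearMap.ext
  rintro ⟨a, b⟩
  have h1 : ((a, b) : V₁ × V₂) = (a, 0) + (0, b) := by simp
  have h2 : X (a, b) = X (a, 0) + X (0, b) := by rw [← map_add, ← h1]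
  rw [h2, blk_apply]
  refine Prod.ext ?_ ?_
  · rfl
  · rw [Prod.snd_add, h0, zero_add]
    rfl

theorem isUnit_blk [Finite V₁] [Finite V₂] (A : V₁ →ₗ[F] V₁) (u : V₂ →ₗ[F] V₁) (T : V₂ →ₗ[F] V₂) :
    IsUnit (blk A u T) ↔ IsUnit A ∧ IsUnit T := by
  rw [Module.End.isUnit_iff, Module.End.isUnit_iff, Module.End.isUnit_iff]
  constructor
  · rintro ⟨h1, h2⟩
    constructor
    · rw [← Finite.injective_iff_bijective]
      intro a a' h
      have h3 := @h1 (a, 0) (a', 0) (by rw [blk_apply, blk_apply]; simp [h])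
      exact congrArg Prod.fst h3
    · rw [← Finite.surjective_iff_bijective]
      intro b
      obtain ⟨v, hv⟩ := h2 (0, b)
      exact ⟨v.2, congrArg Prod.snd hv⟩
  · rintro ⟨h1, h2⟩
    rw [← Finite.injective_iff_bijective]
    rintro ⟨a, b⟩ ⟨a', b'⟩ h
    rw [blk_apply, blk_apply] at h
    have h3 : b = b' := h2.1 (congrArg Prod.snd h)
    subst h3
    have h4 : A a + u b = A a' + u b := congrArg Prod.fst h
    have h5 : a = a' := h1.1 (add_right_cancel h4)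
    rw [h5]

open Classical in
/-- the sum over the endomorphisms preserving `V₁ × 0` -/
theorem sum_stable [Fintype ((V₁ × V₂) →ₗ[F] (V₁ × V₂))] [Fintype (V₁ →ₗ[F] V₁)] [Fintype (V₂ →ₗ[F] V₁)]
    [Fintype (V₂ →ₗ[F] V₂)] (Y : ((V₁ × V₂) →ₗ[F] (V₁ × V₂)) → ℂ)
    (hY : ∀ X, ¬ (⊤ : Submodule F V₁).prod (⊥ : Submodule F V₂) ≤
      ((⊤ : Submodule F V₁).prod (⊥ : Submodule F V₂)).comap X → Y X = 0) :
    ∑ X, Y X = ∑ A : V₁ →ₗ[F] V₁, ∑ T : V₂ →ₗ[F] V₂, ∑ u : V₂ →ₗ[F] V₁, Y (blk A u T) := by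
  rw [← Finset.sum_subset (Finset.subset_univ
    (Finset.univ.image fun z : (V₁ →ₗ[F] V₁) × (V₂ →ₗ[F] V₂) × (V₂ →ₗ[F] V₁) => blk z.1 z.2.2 z.2.1))]
  · rw [Finset.sum_image, Fintype.sum_prod_type]
    · refine Finset.sum_congr rfl fun A _ => ?_
      rw [Fintype.sum_prod_type]
    · rintro ⟨A, T, u⟩ _ ⟨A', T', u'⟩ _ h
      obtain ⟨h1, h2, h3⟩ := blk_injective h
      exact Prod.ext h1 (Prod.ext h3 h2)
  · intro X _ hX
    apply hY
    intro h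
    obtain ⟨A, u, T, rfl⟩ := exists_blk h
    exact hX (Finset.mem_image.2 ⟨(A, T, u), Finset.mem_univ _, rfl⟩)

end blocks

section adjoint

variable (V₁ : Type u) [AddCommGroup V₁] [Module F V₁] [Finite V₁]

/-- **the adjoint of the multiplication by `φ`** -/
noncomputable def adj (φ f : Fam F) : Fam F where
  fn V₂ _ _ T := avg ((V₁ →ₗ[F] V₁)ˣ) fun A => conj (φ.fn V₁ (A : V₁ →ₗ[F] V₁)) * Dl f (A : V₁ →ₗ[F] V₁) T
  conj' e T T' h := avg_congr fun A => by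
    rw [Dl_conj f (LinearEquiv.refl F V₁) e (A' := (A : V₁ →ₗ[F] V₁)) (A := (A : V₁ →ₗ[F] V₁)) (fun v => rfl) h]
  fin' {V₂} _ _ T hV := by
    have h1 : ¬ Finite (V₁ × V₂) := fun h => hV (Finite.of_surjective (Prod.snd : V₁ × V₂ → V₂) fun b => ⟨(0, b), rfl⟩)
    rw [← avg_zero ((V₁ →ₗ[F] V₁)ˣ)]
    refine avg_congr fun A => ?_
    rw [Dl, avg_congr fun u => f.fin' _ h1, avg_zero, mul_zero]

theorem adj_fn (φ f : Fam F) {V₂ : Type u} [AddCommGroup V₂] [Module F V₂] (T : V₂ →ₗ[F] V₂) :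
    (adj V₁ φ f).fn V₂ T =
      avg ((V₁ →ₗ[F] V₁)ˣ) fun A => conj (φ.fn V₁ (A : V₁ →ₗ[F] V₁)) * Dl f (A : V₁ →ₗ[F] V₁) T := rfl

variable {V₁} {V₂ : Type u} [AddCommGroup V₂] [Module F V₂] [Finite V₂]

theorem term_zero_prod (f g : Fam F) (A : V₁ →ₗ[F] V₁) (u : V₂ →ₗ[F] V₁) (T : V₂ →ₗ[F] V₂) :
    f.term g (V₁ × V₂) (blk A u T) ((⊤ : Submodule F V₁).prod (⊥ : Submodule F V₂)) = f.fn V₂ T * g.fn V₁ A := by
  have h1 : (⊤ : Submodule F V₁) ≤ (⊤ : Submodule F V₁).comap A := fun _ _ => Submodule.mem_top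
  have h2 : (⊥ : Submodule F V₂) ≤ (⊥ : Submodule F V₂).comap T := bot_le
  have h3 : u ∈ homs (⊤ : Submodule F V₁) (⊥ : Submodule F V₂) := fun _ _ => Submodule.mem_top
  rw [term_prod f g h1 h2 h3]
  have : Subsingleton (V₁ ⧸ (⊤ : Submodule F V₁)) := Submodule.Quotient.subsingleton_iff.2 rfl
  rw [fn_prod_left, fn_prod_right]
  congr 1
  · refine (f.conj' (Submodule.quotEquivOfEqBot ⊥ rfl).symm fun v => ?_)
    rfl
  · exact (g.conj' (Submodule.topEquiv (R := F) (M := V₁)) fun v => rfl).symm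

/-- subspaces of the same dimension are conjugate -/
theorem exists_map_eq {V : Type u} [AddCommGroup V] [Module F V] [Finite V] {W W' : Submodule F V}
    (h : Module.finrank F W = Module.finrank F W') : ∃ γ : (V →ₗ[F] V)ˣ, W.map (γ : V →ₗ[F] V) = W' := by
  have : Module.Finite F V := Module.Finite.of_finite
  obtain ⟨C, hC⟩ := Submodule.exists_isCompl W
  obtain ⟨C', hC'⟩ := Submodule.exists_isCompl W'
  have h1 := Submodule.finrank_add_eq_of_isCompl hC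
  have h2 := Submodule.finrank_add_eq_of_isCompl hC'
  let e : W ≃ₗ[F] W' := LinearEquiv.ofFinrankEq _ _ h
  let e' : C ≃ₗ[F] C' := LinearEquiv.ofFinrankEq _ _ (by omega)
  let E : V ≃ₗ[F] V := (Submodule.prodEquivOfIsCompl W C hC).symm.trans
    ((e.prodCongr e').trans (Submodule.prodEquivOfIsCompl W' C' hC'))
  refine ⟨LinearMap.GeneralLinearGroup.ofLinearEquiv E, ?_⟩
  have key : ∀ w : W, E (w : V) = (e w : V) := by
    intro w
    have h3 : (Submodule.prodEquivOfIsCompl W C hC).symm (w : V) = (w, 0) :=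
      Submodule.prodEquivOfIsCompl_symm_apply_left W C hC w
    show (Submodule.prodEquivOfIsCompl W' C' hC') ((e.prodCongr e')
      ((Submodule.prodEquivOfIsCompl W C hC).symm (w : V))) = _
    rw [h3]
    simp
  ext x
  rw [Submodule.mem_map]
  constructor
  · rintro ⟨w, hw, rfl⟩
    show E w ∈ W'
    rw [key ⟨w, hw⟩]
    exact (e ⟨w, hw⟩).2
  · intro hx
    refine ⟨(e.symm ⟨x, hx⟩ : W), (e.symm ⟨x, hx⟩).2, ?_⟩
    show E (e.symm ⟨x, hx⟩ : W) = x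
    rw [key, LinearEquiv.apply_symm_apply]

open Classical in
/-- double counting: pairs (unit, stable subspace of dimension `dim W₀`) -/
theorem sum_pairs {V : Type u} [AddCommGroup V] [Module F V] [Finite V] [Fintype (V →ₗ[F] V)] [Fintype (Submodule F V)]
    (W₀ : Submodule F V) (X : (V →ₗ[F] V) → Submodule F V → ℂ)
    (hX : ∀ (γ : (V →ₗ[F] V)ˣ) (T : V →ₗ[F] V) (W : Submodule F V),
      X ((γ : V →ₗ[F] V) * T * ((γ⁻¹ : (V →ₗ[F] V)ˣ) : V →ₗ[F] V)) (W.map (γ : V →ₗ[F] V)) = X T W) :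
    (Nat.card {T : V →ₗ[F] V // IsUnit T ∧ W₀ ≤ W₀.comap T} : ℂ) *
      ∑ T : V →ₗ[F] V, ∑ W ∈ Finset.univ.filter (fun W : Submodule F V => Module.finrank F W = Module.finrank F W₀), X T W =
    (Nat.card ((V →ₗ[F] V)ˣ) : ℂ) * ∑ T : V →ₗ[F] V, X T W₀ := by
  have := Fintype.ofFinite ((V →ₗ[F] V)ˣ)
  -- conjugation invariance of `∑ T, X T W`
  have h1 : ∀ γ : (V →ₗ[F] V)ˣ, ∑ T : V →ₗ[F] V, X T (W₀.map (γ : V →ₗ[F] V)) = ∑ T : V →ₗ[F] V, X T W₀ := by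
    intro γ
    let e : (V →ₗ[F] V) ≃ (V →ₗ[F] V) :=
      { toFun := fun T => (γ : V →ₗ[F] V) * T * ((γ⁻¹ : (V →ₗ[F] V)ˣ) : V →ₗ[F] V)
        invFun := fun T => ((γ⁻¹ : (V →ₗ[F] V)ˣ) : V →ₗ[F] V) * T * (γ : V →ₗ[F] V)
        left_inv := fun T => by
          show ((γ⁻¹ : (V →ₗ[F] V)ˣ) : V →ₗ[F] V) * ((γ : V →ₗ[F] V) * T * ((γ⁻¹ : (V →ₗ[F] V)ˣ) : V →ₗ[F] V)) *
            (γ : V →ₗ[F] V) = T
          simp [mul_assoc]
        right_inv := fun T => by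
          show (γ : V →ₗ[F] V) * (((γ⁻¹ : (V →ₗ[F] V)ˣ) : V →ₗ[F] V) * T * (γ : V →ₗ[F] V)) *
            ((γ⁻¹ : (V →ₗ[F] V)ˣ) : V →ₗ[F] V) = T
          simp [mul_assoc] }
    rw [← Equiv.sum_comp e]
    exact Finset.sum_congr rfl fun T _ => hX γ T W₀
  -- the orbit
  have hst : ∀ γ : (V →ₗ[F] V)ˣ, W₀.map (γ : V →ₗ[F] V) = W₀ ↔ W₀ ≤ W₀.comap (γ : V →ₗ[F] V) := by
    intro γ
    rw [← Submodule.map_le_iff_le_comap]
    refine ⟨fun h => h.le, fun h => ?_⟩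
    have : Module.Finite F V := Module.Finite.of_finite
    refine Submodule.eq_of_le_of_finrank_eq h ?_
    have hinj : Function.Injective (γ : V →ₗ[F] V) := ((Module.End.isUnit_iff _).1 γ.isUnit).1
    exact (Submodule.equivMapOfInjective _ hinj W₀).finrank_eq.symm
  have hcard : Fintype.card {γ : (V →ₗ[F] V)ˣ // W₀.map (γ : V →ₗ[F] V) = W₀} =
      Nat.card {T : V →ₗ[F] V // IsUnit T ∧ W₀ ≤ W₀.comap T} := by
    rw [← Nat.card_eq_fintype_card]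
    refine Nat.card_congr (Equiv.ofBijective
      (fun γ : {γ : (V →ₗ[F] V)ˣ // W₀.map (γ : V →ₗ[F] V) = W₀} =>
        (⟨(γ.1 : V →ₗ[F] V), γ.1.isUnit, (hst γ.1).1 γ.2⟩ : {T : V →ₗ[F] V // IsUnit T ∧ W₀ ≤ W₀.comap T})) ⟨?_, ?_⟩)
    · intro γ γ' h
      exact Subtype.ext (Units.ext (congrArg Subtype.val h))
    · rintro ⟨T, ⟨γ, rfl⟩, h2⟩
      exact ⟨⟨γ, (hst γ).2 h2⟩, rfl⟩
  have hfib : ∀ W : Submodule F V, Module.finrank F W = Module.finrank F W₀ →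
      (Finset.univ.filter fun γ : (V →ₗ[F] V)ˣ => W₀.map (γ : V →ₗ[F] V) = W).card =
        Fintype.card {γ : (V →ₗ[F] V)ˣ // W₀.map (γ : V →ₗ[F] V) = W₀} := by
    intro W hW
    obtain ⟨γ₀, hγ₀⟩ := exists_map_eq hW.symm
    have hmul : ∀ γ γ' : (V →ₗ[F] V)ˣ, W₀.map ((γ * γ' : (V →ₗ[F] V)ˣ) : V →ₗ[F] V) =
        (W₀.map (γ' : V →ₗ[F] V)).map (γ : V →ₗ[F] V) := fun γ γ' => Submodule.map_comp _ _ _
    rw [← Fintype.card_subtype]
    refine Fintype.card_congr ⟨fun γ => ⟨γ₀⁻¹ * γ.1, ?_⟩, fun γ => ⟨γ₀ * γ.1, ?_⟩, fun γ => ?_, fun γ => ?_⟩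
    · rw [hmul, γ.2, ← hγ₀, ← hmul, inv_mul_cancel]
      exact Submodule.map_id _
    · rw [hmul, γ.2, hγ₀]
    · exact Subtype.ext (mul_inv_cancel_left _ _)
    · exact Subtype.ext (inv_mul_cancel_left _ _)
  have hmaps : ∀ γ ∈ (Finset.univ : Finset ((V →ₗ[F] V)ˣ)), W₀.map (γ : V →ₗ[F] V) ∈
      Finset.univ.filter (fun W : Submodule F V => Module.finrank F W = Module.finrank F W₀) := by
    intro γ _
    have hinj : Function.Injective (γ : V →ₗ[F] V) := ((Module.End.isUnit_iff _).1 γ.isUnit).1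
    exact Finset.mem_filter.2 ⟨Finset.mem_univ _, (Submodule.equivMapOfInjective _ hinj W₀).finrank_eq.symm⟩
  have h2 : ∑ γ : (V →ₗ[F] V)ˣ, ∑ T : V →ₗ[F] V, X T (W₀.map (γ : V →ₗ[F] V)) =
      (Fintype.card {γ : (V →ₗ[F] V)ˣ // W₀.map (γ : V →ₗ[F] V) = W₀} : ℂ) *
        ∑ T : V →ₗ[F] V, ∑ W ∈ Finset.univ.filter (fun W : Submodule F V => Module.finrank F W = Module.finrank F W₀), X T W := by
    rw [← Finset.sum_fiberwise_of_maps_to hmaps, Finset.sum_comm (t := Finset.univ.filter _), Finset.mul_sum]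
    refine Finset.sum_congr rfl fun W hW => ?_
    rw [Finset.sum_congr rfl fun γ hγ => by rw [(Finset.mem_filter.1 hγ).2], Finset.sum_const, nsmul_eq_mul,
      hfib W (Finset.mem_filter.1 hW).2]
  rw [← hcard, ← h2, Finset.sum_congr rfl fun γ _ => h1 γ, Finset.sum_const, nsmul_eq_mul, Finset.card_univ,
    Nat.card_eq_fintype_card]

/-- **adjointness** -/
theorem ipV_mul {φ : Fam F} (hφ : Hg φ (Module.finrank F V₁)) (f h : Fam F) :
    ipV (V₁ × V₂) (f * φ) h = ipV V₂ f (adj V₁ φ h) := by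
  classical
  have : Finite (V₁ →ₗ[F] V₁) := finiteHom
  have : Finite (V₂ →ₗ[F] V₂) := finiteHom
  have : Finite (V₂ →ₗ[F] V₁) := finiteHom
  have : Finite ((V₁ × V₂) →ₗ[F] (V₁ × V₂)) := finiteHom
  have := Fintype.ofFinite (V₁ →ₗ[F] V₁)
  have := Fintype.ofFinite (V₂ →ₗ[F] V₂)
  have := Fintype.ofFinite (V₂ →ₗ[F] V₁)
  have := Fintype.ofFinite ((V₁ × V₂) →ₗ[F] (V₁ × V₂))
  have := Fintype.ofFinite (Submodule F (V₁ × V₂))
  have : Module.Finite F V₁ := Module.Finite.of_finite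
  have : Module.Finite F V₂ := Module.Finite.of_finite
  set W₀ : Submodule F (V₁ × V₂) := (⊤ : Submodule F V₁).prod (⊥ : Submodule F V₂) with hW₀
  have hdim : Module.finrank F W₀ = Module.finrank F V₁ := by
    rw [← (subProd (⊤ : Submodule F V₁) (⊥ : Submodule F V₂)).finrank_eq, Module.finrank_prod, finrank_top, finrank_bot,
      add_zero]
  let X : ((V₁ × V₂) →ₗ[F] (V₁ × V₂)) → Submodule F (V₁ × V₂) → ℂ := fun T W =>
    ind (IsUnit T) * (f.term φ (V₁ × V₂) T W * conj (h.fn (V₁ × V₂) T))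
  have hX : ∀ (γ : ((V₁ × V₂) →ₗ[F] (V₁ × V₂))ˣ) (T : (V₁ × V₂) →ₗ[F] (V₁ × V₂)) (W : Submodule F (V₁ × V₂)),
      X ((γ : (V₁ × V₂) →ₗ[F] (V₁ × V₂)) * T * ((γ⁻¹ : ((V₁ × V₂) →ₗ[F] (V₁ × V₂))ˣ) : (V₁ × V₂) →ₗ[F] (V₁ × V₂)))
        (W.map (γ : (V₁ × V₂) →ₗ[F] (V₁ × V₂))) = X T W := by
    intro γ T W
    let e : (V₁ × V₂) ≃ₗ[F] (V₁ × V₂) := LinearMap.GeneralLinearGroup.toLinearEquiv γ
    have he : ∀ v, ((γ : (V₁ × V₂) →ₗ[F] (V₁ × V₂)) * T *
        ((γ⁻¹ : ((V₁ × V₂) →ₗ[F] (V₁ × V₂))ˣ) : (V₁ × V₂) →ₗ[F] (V₁ × V₂))) (e v) = e (T v) := by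
      intro v
      show (γ : (V₁ × V₂) →ₗ[F] (V₁ × V₂)) (T (((γ⁻¹ : ((V₁ × V₂) →ₗ[F] (V₁ × V₂))ˣ) : (V₁ × V₂) →ₗ[F] (V₁ × V₂))
        ((γ : (V₁ × V₂) →ₗ[F] (V₁ × V₂)) v))) = (γ : (V₁ × V₂) →ₗ[F] (V₁ × V₂)) (T v)
      rw [← Module.End.mul_apply (((γ⁻¹ : ((V₁ × V₂) →ₗ[F] (V₁ × V₂))ˣ) : (V₁ × V₂) →ₗ[F] (V₁ × V₂))) _ v, Units.inv_mul,
        Module.End.one_apply]
    have e1 := f.term_conj φ e he W
    have e2 := h.conj' e he
    have e3 : IsUnit ((γ : (V₁ × V₂) →ₗ[F] (V₁ × V₂)) * T *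
        ((γ⁻¹ : ((V₁ × V₂) →ₗ[F] (V₁ × V₂))ˣ) : (V₁ × V₂) →ₗ[F] (V₁ × V₂))) ↔ IsUnit T := by
      rw [Units.isUnit_mul_units, Units.isUnit_units_mul]
    simp only [X]
    rw [e2]
    have e4 : f.term φ (V₁ × V₂) ((γ : (V₁ × V₂) →ₗ[F] (V₁ × V₂)) * T *
        ((γ⁻¹ : ((V₁ × V₂) →ₗ[F] (V₁ × V₂))ˣ) : (V₁ × V₂) →ₗ[F] (V₁ × V₂))) (W.map (γ : (V₁ × V₂) →ₗ[F] (V₁ × V₂))) =
        f.term φ (V₁ × V₂) T W := e1
    rw [e4, ind_congr e3]
  have h1 := sum_pairs W₀ X hX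
  -- the left hand side
  have h2 : ∀ T : (V₁ × V₂) →ₗ[F] (V₁ × V₂), ind (IsUnit T) * ((f * φ).fn (V₁ × V₂) T * conj (h.fn (V₁ × V₂) T)) =
      ∑ W ∈ Finset.univ.filter (fun W : Submodule F (V₁ × V₂) => Module.finrank F W = Module.finrank F W₀), X T W := by
    intro T
    rw [Fam.mul_fn', Finset.sum_mul, Finset.mul_sum]
    refine (Finset.sum_subset (Finset.subset_univ _) fun W _ hW => ?_).symm
    have h3 : Module.finrank F W ≠ Module.finrank F V₁ := by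
      rw [← hdim]
      exact fun h => hW (Finset.mem_filter.2 ⟨Finset.mem_univ _, h⟩)
    by_cases hW' : W ≤ W.comap T
    · rw [Fam.term_of hW', hφ W _ h3, mul_zero, zero_mul, mul_zero]
    · rw [Fam.term_of_not hW', zero_mul, mul_zero]
  have h3 : ∑ T : (V₁ × V₂) →ₗ[F] (V₁ × V₂), X T W₀ = ∑ A : V₁ →ₗ[F] V₁, ∑ T : V₂ →ₗ[F] V₂, ∑ u : V₂ →ₗ[F] V₁,
      ind (IsUnit A) * ind (IsUnit T) * (f.fn V₂ T * φ.fn V₁ A * conj (h.fn (V₁ × V₂) (blk A u T))) := by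
    rw [sum_stable (fun T => X T W₀)]
    · refine Finset.sum_congr rfl fun A _ => Finset.sum_congr rfl fun T _ => Finset.sum_congr rfl fun u _ => ?_
      simp only [X]
      rw [hW₀, term_zero_prod, ind_congr (isUnit_blk A u T), ind_and]
    · intro T hT
      simp only [X]
      rw [hW₀, Fam.term_of_not hT, zero_mul, mul_zero]
  have h4 : (Nat.card {T : (V₁ × V₂) →ₗ[F] (V₁ × V₂) // IsUnit T ∧ W₀ ≤ W₀.comap T} : ℂ) =
      (Nat.card ((V₁ →ₗ[F] V₁)ˣ) : ℂ) * ((Nat.card ((V₂ →ₗ[F] V₂)ˣ) : ℂ) * (Nat.card (V₂ →ₗ[F] V₁) : ℂ)) := by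
    rw [card_sub_eq, sum_stable (fun T => ind (IsUnit T ∧ W₀ ≤ W₀.comap T))]
    · rw [card_units_eq, card_units_eq, Finset.sum_mul]
      refine Finset.sum_congr rfl fun A _ => ?_
      rw [Finset.sum_mul, Finset.mul_sum]
      refine Finset.sum_congr rfl fun T _ => ?_
      have h5 : ∀ u : V₂ →ₗ[F] V₁, ind (IsUnit (blk A u T) ∧ W₀ ≤ W₀.comap (blk A u T)) =
          ind (IsUnit A) * ind (IsUnit T) := by
        intro u
        have h6 : W₀ ≤ W₀.comap (blk A u T) := stable_prod_iff.2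
          ⟨⟨fun _ _ => Submodule.mem_top, bot_le⟩, fun _ _ => Submodule.mem_top⟩
        rw [← ind_and]
        exact ind_congr ⟨fun h => (isUnit_blk A u T).1 h.1, fun h => ⟨(isUnit_blk A u T).2 h, h6⟩⟩
      rw [Finset.sum_congr rfl fun u _ => h5 u, Finset.sum_const, Finset.card_univ, nsmul_eq_mul,
        Nat.card_eq_fintype_card (α := V₂ →ₗ[F] V₁)]
      ring
    · intro T hT
      exact ind_neg fun h => hT h.2
  -- the right hand side
  have hf₁ := finiteUnits (F := F) V₁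
  have hf₂ := finiteUnits (F := F) V₂
  have hf₃ := finiteUnits (F := F) (V₁ × V₂)
  have := Fintype.ofFinite ((V₁ →ₗ[F] V₁)ˣ)
  have h5 : ∀ T : V₂ →ₗ[F] V₂, conj ((adj V₁ φ h).fn V₂ T) = (Nat.card ((V₁ →ₗ[F] V₁)ˣ) : ℂ)⁻¹ *
      ∑ A : V₁ →ₗ[F] V₁, ind (IsUnit A) * (φ.fn V₁ A * ((Nat.card (V₂ →ₗ[F] V₁) : ℂ)⁻¹ *
        ∑ u : V₂ →ₗ[F] V₁, conj (h.fn (V₁ × V₂) (blk A u T)))) := by
    intro T
    rw [adj_fn, avg_eq, map_mul, map_inv₀, map_natCast, map_sum, ← sum_units_eq (V := V₁) (F := F)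
      (fun A => φ.fn V₁ A * ((Nat.card (V₂ →ₗ[F] V₁) : ℂ)⁻¹ * ∑ u : V₂ →ₗ[F] V₁, conj (h.fn (V₁ × V₂) (blk A u T))))]
    congr 1
    refine Finset.sum_congr rfl fun A _ => ?_
    rw [map_mul, Complex.conj_conj, Dl, avg_eq, map_mul, map_inv₀, map_natCast, map_sum]
  have hc₁ : (Nat.card ((V₁ →ₗ[F] V₁)ˣ) : ℂ) ≠ 0 := Nat.cast_ne_zero.2 Nat.card_pos.ne'
  have hc₂ : (Nat.card ((V₂ →ₗ[F] V₂)ˣ) : ℂ) ≠ 0 := Nat.cast_ne_zero.2 Nat.card_pos.ne'
  have hc : (Nat.card (((V₁ × V₂) →ₗ[F] (V₁ × V₂))ˣ) : ℂ) ≠ 0 := Nat.cast_ne_zero.2 Nat.card_pos.ne'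
  have hc₃ : (Nat.card (V₂ →ₗ[F] V₁) : ℂ) ≠ 0 := Nat.cast_ne_zero.2 Nat.card_pos.ne'
  rw [ipV_eq, ipV_eq, Finset.sum_congr rfl fun T _ => h2 T]
  rw [h4, h3] at h1
  have h6 : ∑ A : V₁ →ₗ[F] V₁, ∑ T : V₂ →ₗ[F] V₂, ∑ u : V₂ →ₗ[F] V₁,
      ind (IsUnit A) * ind (IsUnit T) * (f.fn V₂ T * φ.fn V₁ A * conj (h.fn (V₁ × V₂) (blk A u T))) =
      (Nat.card ((V₁ →ₗ[F] V₁)ˣ) : ℂ) * (Nat.card (V₂ →ₗ[F] V₁) : ℂ) *
        ∑ T : V₂ →ₗ[F] V₂, ind (IsUnit T) * (f.fn V₂ T * conj ((adj V₁ φ h).fn V₂ T)) := by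
    rw [Finset.sum_comm, Finset.mul_sum]
    refine Finset.sum_congr rfl fun T _ => ?_
    rw [h5]
    have h7 : (Nat.card ((V₁ →ₗ[F] V₁)ˣ) : ℂ) * (Nat.card (V₂ →ₗ[F] V₁) : ℂ) * (ind (IsUnit T) * (f.fn V₂ T *
        ((Nat.card ((V₁ →ₗ[F] V₁)ˣ) : ℂ)⁻¹ * ∑ A : V₁ →ₗ[F] V₁, ind (IsUnit A) * (φ.fn V₁ A *
          ((Nat.card (V₂ →ₗ[F] V₁) : ℂ)⁻¹ * ∑ u : V₂ →ₗ[F] V₁, conj (h.fn (V₁ × V₂) (blk A u T))))))) =
        ∑ A : V₁ →ₗ[F] V₁, (Nat.card (V₂ →ₗ[F] V₁) : ℂ) * (ind (IsUnit T) * f.fn V₂ T) * (ind (IsUnit A) * (φ.fn V₁ A *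
          ((Nat.card (V₂ →ₗ[F] V₁) : ℂ)⁻¹ * ∑ u : V₂ →ₗ[F] V₁, conj (h.fn (V₁ × V₂) (blk A u T))))) := by
      rw [← Finset.mul_sum]
      field_simp
    rw [h7]
    refine Finset.sum_congr rfl fun A _ => ?_
    rw [← Finset.mul_sum, ← Finset.mul_sum]
    field_simp
  rw [h6] at h1
  apply mul_left_cancel₀ (mul_ne_zero hc₁ (mul_ne_zero hc₂ hc₃))
  apply mul_left_cancel₀ hc
  calc _ = (Nat.card ((V₁ →ₗ[F] V₁)ˣ) : ℂ) * ((Nat.card ((V₂ →ₗ[F] V₂)ˣ) : ℂ) * (Nat.card (V₂ →ₗ[F] V₁) : ℂ)) *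
        ∑ T : (V₁ × V₂) →ₗ[F] (V₁ × V₂), ∑ W ∈ Finset.univ.filter
          (fun W : Submodule F (V₁ × V₂) => Module.finrank F W = Module.finrank F W₀), X T W := by
        field_simp
    _ = _ := h1
    _ = _ := by field_simp

end adjoint



open Cfsg.Agent.H139.Cusp (phi phi_mem phi_of_mem add_phi_inv restrict_add_phi mapQ_add_phi inv_add_phi_iff
  isUnit_add_phi)

universe w

/-- primitive families: the averages over the unipotent radicals vanish -/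
def Prm (φ : Fam F) : Prop :=
  ∀ (V : Type u) [AddCommGroup V] [Module F V] [Finite V] (T : V →ₗ[F] V) (N : Submodule F V), N ≤ N.comap T →
    N ≠ ⊥ → N ≠ ⊤ → ∑ᶠ t : (V ⧸ N) →ₗ[F] N, φ.fn V (T + phi N t) = 0

section

variable {V : Type u} [AddCommGroup V] [Module F V] [Finite V]

/-- orthogonality of a primitive element to the functions inflated from Levi factors -/
theorem Prm.orth {φ : Fam F} (hφ : Prm φ) [Fintype (V →ₗ[F] V)] {N : Submodule F V} (hN0 : N ≠ ⊥) (hN1 : N ≠ ⊤)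
    (w : (V →ₗ[F] V) → ℂ) (hw0 : ∀ g, ¬ N ≤ N.comap g → w g = 0)
    (hw1 : ∀ g, N ≤ N.comap g → ∀ t : (V ⧸ N) →ₗ[F] N, w (g + phi N t) = w g) :
    ∑ g : V →ₗ[F] V, φ.fn V g * w g = 0 := by
  have := finite_quot' N
  have : Finite ((V ⧸ N) →ₗ[F] N) := finiteHom
  have := Fintype.ofFinite ((V ⧸ N) →ₗ[F] N)
  have hcard : (Fintype.card ((V ⧸ N) →ₗ[F] N) : ℂ) ≠ 0 := by
    have : Nonempty ((V ⧸ N) →ₗ[F] N) := ⟨0⟩
    exact Nat.cast_ne_zero.2 Fintype.card_ne_zero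
  have h2 : (Fintype.card ((V ⧸ N) →ₗ[F] N) : ℂ) * ∑ g : V →ₗ[F] V, φ.fn V g * w g = 0 := by
    have h3 : ∀ t : (V ⧸ N) →ₗ[F] N, ∑ g : V →ₗ[F] V, φ.fn V g * w g =
        ∑ g : V →ₗ[F] V, φ.fn V (g + phi N t) * w (g + phi N t) := by
      intro t
      exact (Fintype.sum_equiv (Equiv.addRight (phi N t)) _ _ fun g => rfl).symm
    rw [← nsmul_eq_mul, ← Finset.card_univ, ← Finset.sum_const,
      Finset.sum_congr rfl fun t _ => h3 t, Finset.sum_comm]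
    refine Finset.sum_eq_zero fun g _ => ?_
    by_cases hg : N ≤ N.comap g
    · have h4 := hφ V g N hg hN0 hN1
      rw [finsum_eq_sum_of_fintype] at h4
      rw [Finset.sum_congr rfl fun t _ => congrArg (φ.fn V (g + phi N t) * ·) (hw1 g hg t), ← Finset.sum_mul, h4,
        zero_mul]
    · refine Finset.sum_eq_zero fun t _ => ?_
      rw [hw0 _ (fun h => hg ((inv_add_phi_iff g t).1 h)), mul_zero]
  exact (mul_eq_zero.1 h2).resolve_left hcard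

end

/-! ### the block form -/

section block

variable {V₁ V₂ : Type u} [AddCommGroup V₁] [Module F V₁] [AddCommGroup V₂] [Module F V₂]

/-- the homomorphism of the radical attached to `u` -/
def toRad (u : V₂ →ₗ[F] V₁) :
    ((V₁ × V₂) ⧸ (⊤ : Submodule F V₁).prod (⊥ : Submodule F V₂)) →ₗ[F]
      ((⊤ : Submodule F V₁).prod (⊥ : Submodule F V₂)) :=
  ((⊤ : Submodule F V₁).prod (⊥ : Submodule F V₂)).liftQ
    (LinearMap.codRestrict _ (LinearMap.inl F V₁ V₂ ∘ₗ u ∘ₗ LinearMap.snd F V₁ V₂)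
      fun v => Submodule.mem_prod.2 ⟨Submodule.mem_top, Submodule.zero_mem _⟩) (by
    intro v hv
    rw [LinearMap.mem_ker]
    apply Subtype.ext
    have h1 : v.2 = 0 := (Submodule.mem_prod.1 hv).2
    show ((u v.2, 0) : V₁ × V₂) = 0
    rw [h1, map_zero]
    rfl)

theorem toRad_mk (u : V₂ →ₗ[F] V₁) (v : V₁ × V₂) :
    ((toRad u (((⊤ : Submodule F V₁).prod (⊥ : Submodule F V₂)).mkQ v) :
      (⊤ : Submodule F V₁).prod (⊥ : Submodule F V₂)) : V₁ × V₂) = (u v.2, 0) := rfl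

theorem toRad_bijective : Function.Bijective (toRad (V₁ := V₁) (V₂ := V₂) (F := F)) := by
  constructor
  · intro u u' h
    ext b
    have h1 := LinearMap.congr_fun h (((⊤ : Submodule F V₁).prod (⊥ : Submodule F V₂)).mkQ (0, b))
    have h2 := congrArg (fun x : ((⊤ : Submodule F V₁).prod (⊥ : Submodule F V₂)) => (x : V₁ × V₂).1) h1
    exact h2
  · intro t
    refine ⟨LinearMap.fst F V₁ V₂ ∘ₗ Submodule.subtype _ ∘ₗ t ∘ₗ Submodule.mkQ _ ∘ₗ LinearMap.inr F V₁ V₂, ?_⟩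
    apply Submodule.linearMap_qext
    apply LinearMap.ext
    rintro ⟨a, b⟩
    apply Subtype.ext
    have h1 : ((⊤ : Submodule F V₁).prod (⊥ : Submodule F V₂)).mkQ (a, b) =
        ((⊤ : Submodule F V₁).prod (⊥ : Submodule F V₂)).mkQ (0, b) := by
      rw [← sub_eq_zero, ← map_sub]
      refine (Submodule.Quotient.mk_eq_zero _).2 (Submodule.mem_prod.2 ⟨Submodule.mem_top, ?_⟩)
      show b - b ∈ (⊥ : Submodule F V₂)
      rw [sub_self]
      exact Submodule.zero_mem _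
    show (((t (((⊤ : Submodule F V₁).prod (⊥ : Submodule F V₂)).mkQ (0, b)) : V₁ × V₂)).1, (0 : V₂)) =
      (t (((⊤ : Submodule F V₁).prod (⊥ : Submodule F V₂)).mkQ (a, b)) : V₁ × V₂)
    rw [h1]
    refine Prod.ext rfl ?_
    exact ((Submodule.mem_prod.1 (t (((⊤ : Submodule F V₁).prod (⊥ : Submodule F V₂)).mkQ (0, b))).2).2).symm

theorem blk_eq_add_phi (A : V₁ →ₗ[F] V₁) (u : V₂ →ₗ[F] V₁) (T : V₂ →ₗ[F] V₂) :
    blk A u T = blk A 0 T + phi ((⊤ : Submodule F V₁).prod (⊥ : Submodule F V₂)) (toRad u) := by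
  apply LinearMap.ext
  rintro ⟨a, b⟩
  rw [LinearMap.add_apply, blk_apply, blk_apply]
  refine Prod.ext ?_ ?_
  · show A a + u b = A a + (0 : V₂ →ₗ[F] V₁) b + u b
    rw [LinearMap.zero_apply, add_zero]
  · show T b = T b + 0
    rw [add_zero]

theorem Prm.Dl_eq_zero {φ : Fam F} (hφ : Prm φ) [Finite V₁] [Finite V₂] [Nontrivial V₁] [Nontrivial V₂]
    (A : V₁ →ₗ[F] V₁) (T : V₂ →ₗ[F] V₂) : Dl φ A T = 0 := by
  have h1 : (⊤ : Submodule F V₁).prod (⊥ : Submodule F V₂) ≤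
      ((⊤ : Submodule F V₁).prod (⊥ : Submodule F V₂)).comap (blk A 0 T) :=
    stable_prod_iff.2 ⟨⟨fun _ _ => Submodule.mem_top, bot_le⟩, fun _ _ => Submodule.mem_top⟩
  have h2 : (⊤ : Submodule F V₁).prod (⊥ : Submodule F V₂) ≠ ⊥ := by
    obtain ⟨a, ha⟩ := exists_ne (0 : V₁)
    intro h
    have h3 : ((a, 0) : V₁ × V₂) ∈ (⊤ : Submodule F V₁).prod (⊥ : Submodule F V₂) :=
      Submodule.mem_prod.2 ⟨Submodule.mem_top, Submodule.zero_mem _⟩
    rw [h, Submodule.mem_bot] at h3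
    exact ha (congrArg Prod.fst h3)
  have h3 : (⊤ : Submodule F V₁).prod (⊥ : Submodule F V₂) ≠ ⊤ := by
    obtain ⟨b, hb⟩ := exists_ne (0 : V₂)
    intro h
    have h3 : ((0, b) : V₁ × V₂) ∈ (⊤ : Submodule F V₁).prod (⊥ : Submodule F V₂) := by
      rw [h]
      exact Submodule.mem_top
    exact hb (Submodule.mem_prod.1 h3).2
  have h4 := hφ (V₁ × V₂) (blk A 0 T) _ h1 h2 h3
  rw [Dl, avg, ← mul_zero (Nat.card (V₂ →ₗ[F] V₁) : ℂ)⁻¹, ← h4]
  congr 1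
  rw [← finsum_comp _ toRad_bijective]
  exact finsum_congr fun u => by rw [blk_eq_add_phi]

end block

/-! ### examples -/

theorem prm_kapF {B : Polynomial F → ℂ} (hB : Add B) : Prm (kapF B) := by
  intro V _ _ _ T N hN h0 h1
  have := finite_quot' N
  have : Finite ((V ⧸ N) →ₗ[F] N) := finiteHom
  have := Fintype.ofFinite ((V ⧸ N) →ₗ[F] N)
  rw [finsum_eq_sum_of_fintype]
  have h2 := Cfsg.Agent.H139.Cusp.kap_vanish B hB _ V rfl N T hN h0 h1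
  rw [← h2]
  refine Finset.sum_congr (by ext; simp) fun t _ => ?_
  rw [kapF_fn]

theorem Prm.comp {φ : Fam F} (hφ : Prm φ) (n : ℕ) : Prm (H614.GLn.comp n φ) := by
  intro V _ _ _ T N hN h0 h1
  have h2 : ∀ t : (V ⧸ N) →ₗ[F] N, (H614.GLn.comp n φ).fn V (T + phi N t) =
      (if Module.finrank F V = n then φ.fn V (T + phi N t) else 0) := fun t => comp_fn n φ V _
  rw [finsum_congr h2]
  by_cases h : Module.finrank F V = n
  · simp only [if_pos h]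
    exact hφ V T N hN h0 h1
  · simp only [if_neg h]
    exact finsum_zero

theorem hg_comp (φ : Fam F) (n : ℕ) : Hg (H614.GLn.comp n φ) n := by
  intro V _ _ _ T h
  rw [comp_fn, if_neg h]

theorem prm_Rf {K : Type w} [Field K] [Algebra F K] (θ : K →*₀ ℂ) (k a : ℕ) : Prm (Rf (F := F) θ k a) :=
  (prm_kapF (lba_add θ a)).comp k

theorem hg_Rf {K : Type w} [Field K] [Algebra F K] (θ : K →*₀ ℂ) (k a : ℕ) : Hg (Rf (F := F) θ k a) k := hg_comp _ k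

theorem prm_Rc {K : Type w} [Field K] [Algebra F K] (θ : K →*₀ ℂ) (M k : ℕ) (c : ZMod M) : Prm (Rc (F := F) θ M k c) :=
  prm_Rf θ k _

theorem hg_Rc {K : Type w} [Field K] [Algebra F K] (θ : K →*₀ ℂ) (M k : ℕ) (c : ZMod M) : Hg (Rc (F := F) θ M k c) k :=
  hg_Rf θ k _

/-! ### the derivation -/

section deriv

variable {V₁ : Type u} [AddCommGroup V₁] [Module F V₁] [Finite V₁]
variable {V₂ : Type u} [AddCommGroup V₂] [Module F V₂] [Finite V₂]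

theorem mterm_bot (f g : Fam F) (A : V₁ →ₗ[F] V₁) {T : V₂ →ₗ[F] V₂} {N : Submodule F V₂} (h : N ≤ N.comap T) :
    mterm f g A T (⊥, N) = Dl f A (N.mapQ N T h) * g.fn N (T.restrict h) := by
  have := finite_quot' N
  have := finite_quot' (⊥ : Submodule F V₁)
  have h1 : (⊥ : Submodule F V₁) ≤ (⊥ : Submodule F V₁).comap A := bot_le
  rw [mterm, dif_pos ⟨h1, h⟩]
  congr 1
  · exact Dl_conj f (Submodule.quotEquivOfEqBot (⊥ : Submodule F V₁) rfl).symm (LinearEquiv.refl F (V₂ ⧸ N))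
      (fun v => rfl) (fun v => rfl)
  · exact Dl_left g _ _

theorem mterm_top (f g : Fam F) (A : V₁ →ₗ[F] V₁) {T : V₂ →ₗ[F] V₂} {N : Submodule F V₂} (h : N ≤ N.comap T) :
    mterm f g A T (⊤, N) = f.fn (V₂ ⧸ N) (N.mapQ N T h) * Dl g A (T.restrict h) := by
  have := finite_quot' N
  have h1 : (⊤ : Submodule F V₁) ≤ (⊤ : Submodule F V₁).comap A := fun _ _ => Submodule.mem_top
  have : Subsingleton (V₁ ⧸ (⊤ : Submodule F V₁)) := Submodule.Quotient.subsingleton_iff.2 rfl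
  rw [mterm, dif_pos ⟨h1, h⟩]
  congr 1
  · exact Dl_left f _ _
  · exact (Dl_conj g (Submodule.topEquiv (R := F) (M := V₁)) (LinearEquiv.refl F N) (A := A.restrict h1) (A' := A)
      (T := T.restrict h) (T' := T.restrict h) (fun v => rfl) (fun v => rfl)).symm

theorem mterm_of_not (f g : Fam F) (A : V₁ →ₗ[F] V₁) {T : V₂ →ₗ[F] V₂} {N₁ : Submodule F V₁} {N : Submodule F V₂}
    (h : ¬ N ≤ N.comap T) : mterm f g A T (N₁, N) = 0 := by
  rw [mterm, dif_neg fun h' => h h'.2]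

/-- the middle terms vanish -/
theorem Prm.mid {φ : Fam F} (hφ : Prm φ) (f g : Fam F) (T : V₂ →ₗ[F] V₂) {N₁ : Submodule F V₁} (N₂ : Submodule F V₂)
    (h0 : N₁ ≠ ⊥) (h1 : N₁ ≠ ⊤) : avg ((V₁ →ₗ[F] V₁)ˣ) (fun A => conj (φ.fn V₁ (A : V₁ →ₗ[F] V₁)) *
      mterm f g (A : V₁ →ₗ[F] V₁) T (N₁, N₂)) = 0 := by
  have := finiteUnits (F := F) V₁
  have := Fintype.ofFinite ((V₁ →ₗ[F] V₁)ˣ)
  have : Finite (V₁ →ₗ[F] V₁) := finiteHom
  have := Fintype.ofFinite (V₁ →ₗ[F] V₁)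
  rw [avg_eq, sum_units_eq (V := V₁) (F := F) (fun A => conj (φ.fn V₁ A) * mterm f g A T (N₁, N₂))]
  have h2 : ∑ A : V₁ →ₗ[F] V₁, φ.fn V₁ A * conj (ind (IsUnit A) * mterm f g A T (N₁, N₂)) = 0 := by
    refine hφ.orth h0 h1 (fun A => conj (ind (IsUnit A) * mterm f g A T (N₁, N₂))) (fun A hA => ?_) (fun A hA t => ?_)
    · rw [mterm, dif_neg fun h => hA h.1, mul_zero, map_zero]
    · have e1 : mterm f g (A + phi N₁ t) T (N₁, N₂) = mterm f g A T (N₁, N₂) := by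
        by_cases h : N₂ ≤ N₂.comap T
        · rw [mterm, mterm, dif_pos ⟨add_phi_inv hA t, h⟩, dif_pos ⟨hA, h⟩]
          simp only
          rw [mapQ_add_phi hA t, restrict_add_phi hA t]
        · rw [mterm_of_not f g _ h, mterm_of_not f g _ h]
      show conj (ind (IsUnit (A + phi N₁ t)) * mterm f g (A + phi N₁ t) T (N₁, N₂)) = _
      rw [e1, ind_congr (isUnit_add_phi hA t)]
  have h3 := congrArg conj h2
  rw [map_sum, map_zero] at h3
  rw [← mul_zero (Nat.card ((V₁ →ₗ[F] V₁)ˣ) : ℂ)⁻¹, ← h3]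
  congr 1
  refine Finset.sum_congr rfl fun A _ => ?_
  rw [map_mul, Complex.conj_conj]
  ring

/-- **the adjoint of the multiplication by a primitive element is a derivation** -/
theorem adj_mul {φ : Fam F} (hφ : Prm φ) [Nontrivial V₁] (f g : Fam F) :
    adj V₁ φ (f * g) = adj V₁ φ f * g + f * adj V₁ φ g := by
  classical
  ext V₂ _ _ _ T
  have := finiteUnits (F := F) V₁
  have := Fintype.ofFinite (Submodule F V₁)
  have := Fintype.ofFinite (Submodule F V₂)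
  have h1 : (adj V₁ φ (f * g)).fn V₂ T = ∑ N₂ : Submodule F V₂, ∑ N₁ : Submodule F V₁,
      avg ((V₁ →ₗ[F] V₁)ˣ) (fun A => conj (φ.fn V₁ (A : V₁ →ₗ[F] V₁)) * mterm f g (A : V₁ →ₗ[F] V₁) T (N₁, N₂)) := by
    rw [adj_fn, avg_congr fun A => by rw [mackey, Fintype.sum_prod_type_right, Finset.mul_sum], avg_sum]
    refine Finset.sum_congr rfl fun N₂ _ => ?_
    rw [← avg_sum]
    exact avg_congr fun A => Finset.mul_sum _ _ _
  have h2 : (adj V₁ φ f * g + f * adj V₁ φ g).fn V₂ T = ∑ N₂ : Submodule F V₂,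
      ((adj V₁ φ f).term g V₂ T N₂ + f.term (adj V₁ φ g) V₂ T N₂) := by
    show (adj V₁ φ f * g).fn V₂ T + (f * adj V₁ φ g).fn V₂ T = _
    rw [Fam.mul_fn', Fam.mul_fn', Finset.sum_add_distrib]
  rw [h1, h2]
  refine Finset.sum_congr rfl fun N₂ _ => ?_
  have hne : (⊥ : Submodule F V₁) ≠ ⊤ := bot_ne_top
  rw [← Finset.sum_subset (Finset.subset_univ ({⊥, ⊤} : Finset (Submodule F V₁))), Finset.sum_pair hne]
  · by_cases h : N₂ ≤ N₂.comap T
    · have := finite_quot' N₂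
      rw [Fam.term_of h, Fam.term_of h]
      congr 1
      · rw [adj_fn, mul_comm, ← avg_mul_left]
        refine avg_congr fun A => ?_
        rw [mterm_bot f g _ h]
        ring
      · rw [adj_fn, ← avg_mul_left]
        refine avg_congr fun A => ?_
        rw [mterm_top f g _ h]
        ring
    · rw [Fam.term_of_not h, Fam.term_of_not h]
      congr 1
      · rw [← avg_zero ((V₁ →ₗ[F] V₁)ˣ)]
        refine avg_congr fun A => ?_
        rw [mterm_of_not f g _ h, mul_zero]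
      · rw [← avg_zero ((V₁ →ₗ[F] V₁)ˣ)]
        refine avg_congr fun A => ?_
        rw [mterm_of_not f g _ h, mul_zero]
  · intro N₁ _ hN₁
    rw [Finset.mem_insert, Finset.mem_singleton, not_or] at hN₁
    exact hφ.mid f g T N₂ hN₁.1 hN₁.2

/-! ### linearity -/

theorem Dl_add (f g : Fam F) (A : V₁ →ₗ[F] V₁) (T : V₂ →ₗ[F] V₂) : Dl (f + g) A T = Dl f A T + Dl g A T := by
  have : Finite (V₂ →ₗ[F] V₁) := finiteHom
  rw [Dl, Dl, Dl, ← avg_add]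
  rfl

theorem Dl_smul (c : ℂ) (f : Fam F) (A : V₁ →ₗ[F] V₁) (T : V₂ →ₗ[F] V₂) : Dl (c • f) A T = c * Dl f A T := by
  have : Finite (V₂ →ₗ[F] V₁) := finiteHom
  rw [Dl, Dl, ← avg_mul_left]
  rfl

theorem adj_add (φ f g : Fam F) : adj V₁ φ (f + g) = adj V₁ φ f + adj V₁ φ g := by
  ext V₂ _ _ _ T
  have := finiteUnits (F := F) V₁
  show avg _ _ = avg _ _ + avg _ _
  rw [← avg_add]
  refine avg_congr fun A => ?_
  rw [Dl_add]
  ring

theorem adj_smul (φ : Fam F) (c : ℂ) (f : Fam F) : adj V₁ φ (c • f) = c • adj V₁ φ f := by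
  ext V₂ _ _ _ T
  have := finiteUnits (F := F) V₁
  show avg _ _ = c * avg _ _
  rw [← avg_mul_left]
  refine avg_congr fun A => ?_
  rw [Dl_smul]
  ring

theorem one_fn_of_nontrivial {V : Type u} [AddCommGroup V] [Module F V] [Nontrivial V] (T : V →ₗ[F] V) :
    (1 : Fam F).fn V T = 0 := if_neg (not_subsingleton V)

theorem one_fn_of_subsingleton {V : Type u} [AddCommGroup V] [Module F V] [h : Subsingleton V] (T : V →ₗ[F] V) :
    (1 : Fam F).fn V T = 1 := if_pos h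

theorem adj_one (φ : Fam F) [Nontrivial V₁] : adj V₁ φ 1 = 0 := by
  ext V₂ _ _ _ T
  show avg _ _ = 0
  rw [← avg_zero ((V₁ →ₗ[F] V₁)ˣ)]
  refine avg_congr fun A => ?_
  have h1 : Dl (1 : Fam F) (A : V₁ →ₗ[F] V₁) T = 0 := by
    have : Nontrivial (V₁ × V₂) := (Function.LeftInverse.injective (g := (Prod.fst : V₁ × V₂ → V₁))
      (f := fun a => (a, 0)) fun _ => rfl).nontrivial
    rw [Dl, ← avg_zero (V₂ →ₗ[F] V₁)]
    exact avg_congr fun u => one_fn_of_nontrivial _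
  rw [h1, mul_zero]

/-- the adjoint at a primitive element -/
theorem adj_prm (φ : Fam F) {ψ : Fam F} (hψ : Prm ψ) [Nontrivial V₁] : adj V₁ φ ψ = ipV V₁ ψ φ • (1 : Fam F) := by
  ext V₂ _ _ _ T
  show avg _ _ = ipV V₁ ψ φ * (1 : Fam F).fn V₂ T
  rcases subsingleton_or_nontrivial V₂ with h | h
  · rw [one_fn_of_subsingleton, mul_one, ipV]
    refine avg_congr fun A => ?_
    rw [Dl_right, mul_comm]
  · rw [one_fn_of_nontrivial, mul_zero, ← avg_zero ((V₁ →ₗ[F] V₁)ˣ)]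
    refine avg_congr fun A => ?_
    rw [hψ.Dl_eq_zero, mul_zero]

end deriv

end Cfsg.Agent.H623.GLn
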